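import Groth.Agent.CMChart.Ring
import Groth.Agent.DimFormula.Dims
import Groth.Agent.DimFormula.Open
import Groth.Agent.EquidimPt.FlatChart
import Groth.Agent.FibCrit.Props
import Groth.Prelude.Def_MoreMor
import Mathlib.RingTheory.RegularLocalRing.Polynomial

/-!
# Cohen–Macaulay morphisms and quasi-finite flat charts into affine space
-/

set_option autoImplicit false
set_option linter.style.haveILetI false
universe u

open CategoryTheory AlgebraicGeometry Topology TopologicalSpace Limits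
open Groth.Agent Groth.Agent.Unibranch Groth.Agent.EquidimPt Groth.Agent.DimFormula

namespace Groth.Agent.CMChart

theorem depth_le_of_ringEquiv {R R' : Type u} [CommRing R] [CommRing R'] [IsLocalRing R] [IsLocalRing R']
    (e : R ≃+* R') : LocCoh.depth R R ≤ LocCoh.depth R' R' := by
  simp only [LocCoh.depth, LocCoh.idealDepth]
  rw [if_neg (by rw [smul_eq_mul, Ideal.mul_top]; exact (IsLocalRing.maximalIdeal.isMaximal R).ne_top),
    if_neg (by rw [smul_eq_mul, Ideal.mul_top]; exact (IsLocalRing.maximalIdeal.isMaximal R').ne_top)]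
  refine iSup₂_le fun rs hrs => le_iSup₂_of_le (rs.map e) ⟨?_, fun r hr => ?_⟩ (by simp)
  · refine (e.toAddEquiv.isWeaklyRegular_congr (List.forall₂_map_right_iff.mpr
      (List.forall₂_same.mpr fun r _ x => ?_))).mp hrs.1
    exact map_mul e r x
  · obtain ⟨r, hr', rfl⟩ := List.mem_map.mp hr
    have h1 : r ∈ IsLocalRing.maximalIdeal R := hrs.2 r hr'
    rw [IsLocalRing.mem_maximalIdeal, mem_nonunits_iff] at h1 ⊢
    exact fun hu => h1 (by simpa using hu.map e.symm)

theorem isCohenMacaulayLocalRing_of_ringEquiv {R R' : Type u} [CommRing R] [CommRing R'] (e : R ≃+* R')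
    (h : LocCoh.IsCohenMacaulayLocalRing R) : LocCoh.IsCohenMacaulayLocalRing R' := by
  haveI : IsLocalRing R' := e.isLocalRing
  haveI := isNoetherianRing_of_ringEquiv R e
  refine { supportDim_eq_depth := ?_ }
  rw [Module.supportDim_self_eq_ringKrullDim, ← ringKrullDim_eq_of_ringEquiv e,
    ← Module.supportDim_self_eq_ringKrullDim, h.supportDim_eq_depth,
    le_antisymm (depth_le_of_ringEquiv e) (depth_le_of_ringEquiv e.symm)]

variable {X Y : Scheme.{u}}

/-- Local rings of fibres of affine space are regular. -/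
theorem isRegularLocalRing_fiber_stalk (σ : Type u) [Finite σ] (y : Y)
    (w : ↥((AffineSpace σ Y ↘ Y).fiber y)) :
    IsRegularLocalRing (((AffineSpace σ Y ↘ Y).fiber y).presheaf.stalk w) := by
  let i := (fiberIso σ y).hom
  let q := i w
  haveI := IsRegularRing.isRegularLocalRing_localization
    (R := MvPolynomial σ (Y.residueField y)) q.asIdeal
  haveI : IsRegularLocalRing ((Spec (CommRingCat.of (MvPolynomial σ (Y.residueField y)))).presheaf.stalk q) :=
    IsRegularLocalRing.of_ringEquiv (StructureSheaf.stalkIso _ q).toRingEquiv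
  exact IsRegularLocalRing.of_ringEquiv (asIso (i.stalkMap w)).commRingCatIsoToRingEquiv

/-- The Cohen–Macaulay property of the fibre is insensitive to shrinking the source. -/
theorem isCM_fiber_iff (f : X ⟶ Y) (U : X.Opens) (h : (U : Scheme.{u}) ⟶ Y) (e : h = U.ι ≫ f)
    (u : (U : Scheme.{u})) :
    LocCoh.IsCohenMacaulayLocalRing ((h.fiber (h u)).presheaf.stalk (h.asFiber u)) ↔
      LocCoh.IsCohenMacaulayLocalRing ((f.fiber (f (U.ι u))).presheaf.stalk (f.asFiber (U.ι u))) := by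
  subst e
  let s := (U.ι ≫ f) u
  let z := (U.ι ≫ f).asFiber u
  let k := MoreMor.fiberMap U.ι f s
  haveI : IsOpenImmersion k := by
    show IsOpenImmersion (MoreMor.fiberMap U.ι f s)
    rw [← (FibCrit.isPullback_fiberMap U.ι f s).isoPullback_hom_snd]
    infer_instance
  have hs : s = f (U.ι u) := Scheme.Hom.comp_apply _ _ _
  have hkz : f.fiberι s (k z) = U.ι u := by
    refine (Scheme.Hom.comp_apply _ _ _).symm.trans ((congr($(FibCrit.fiberMap_fiberι U.ι f s) z)).trans
      ((Scheme.Hom.comp_apply _ _ _).trans ?_))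
    exact congrArg U.ι ((U.ι ≫ f).fiberι_asFiber u)
  have key : ∀ (y : Y) (hy : y = f (U.ι u)) (w : f.fiber y), f.fiberι y w = U.ι u →
      (LocCoh.IsCohenMacaulayLocalRing ((f.fiber y).presheaf.stalk w) ↔
        LocCoh.IsCohenMacaulayLocalRing ((f.fiber (f (U.ι u))).presheaf.stalk (f.asFiber (U.ι u)))) := by
    rintro y rfl w hw
    rw [show w = f.asFiber (U.ι u) from
      (f.fiberι _).isEmbedding.injective (hw.trans (f.fiberι_asFiber _).symm)]
  rw [← key s hs (k z) hkz]
  let e := (asIso (k.stalkMap z)).commRingCatIsoToRingEquiv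
  exact ⟨isCohenMacaulayLocalRing_of_ringEquiv e.symm, isCohenMacaulayLocalRing_of_ringEquiv e⟩

section Chart

variable (d : ℕ)

/-- The data of the map of fibres induced by a locally quasi-finite map to affine space. -/
theorem fibre_facts {Z : Scheme.{u}} (g : Z ⟶ AffineSpace (ULift.{u} (Fin d)) Y) [LocallyQuasiFinite g]
    (u : Z) :
    let π := AffineSpace (ULift.{u} (Fin d)) Y ↘ Y
    let k := MoreMor.fiberMap g π ((g ≫ π) u)
    let z := (g ≫ π).asFiber u
    ∀ J : Ideal (((g ≫ π).fiber ((g ≫ π) u)).presheaf.stalk z), J.IsPrime →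
      J.comap (k.stalkMap z).hom = IsLocalRing.maximalIdeal _ → J = IsLocalRing.maximalIdeal _ := by
  intro π k z J hJ hJc
  haveI : LocallyQuasiFinite k := by
    rw [show k = _ from (FibCrit.isPullback_fiberMap g π ((g ≫ π) u)).isoPullback_hom_snd.symm]
    infer_instance
  let Q : PrimeSpectrum (((g ≫ π).fiber ((g ≫ π) u)).presheaf.stalk z) := ⟨J, hJ⟩
  let F := (g ≫ π).fiber ((g ≫ π) u)
  have hsp : F.fromSpecStalk z Q ⤳ z := by
    have : F.fromSpecStalk z Q ∈ Set.range (F.fromSpecStalk z) := ⟨Q, rfl⟩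
    rwa [Scheme.range_fromSpecStalk] at this
  have hk : k (F.fromSpecStalk z Q) = k z := by
    rw [← fromSpecStalk_stalkMap k z Q,
      show PrimeSpectrum.comap (k.stalkMap z).hom Q = IsLocalRing.closedPoint _ from PrimeSpectrum.ext hJc,
      Scheme.fromSpecStalk_closedPoint]
  have h := EquidimPt.eq_of_specializes k hsp hk
  exact congrArg PrimeSpectrum.asIdeal ((F.fromSpecStalk z).isEmbedding.injective
    (h.trans Scheme.fromSpecStalk_closedPoint.symm))

theorem fibFlat_iff {Z : Scheme.{u}} (g : Z ⟶ AffineSpace (ULift.{u} (Fin d)) Y) (u : Z) :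
    FibCrit.FibFlat g (AffineSpace (ULift.{u} (Fin d)) Y ↘ Y) u ↔
      ((MoreMor.fiberMap g (AffineSpace (ULift.{u} (Fin d)) Y ↘ Y)
        ((g ≫ (AffineSpace (ULift.{u} (Fin d)) Y ↘ Y)) u)).stalkMap
          ((g ≫ (AffineSpace (ULift.{u} (Fin d)) Y ↘ Y)).asFiber u)).hom.Flat := by
  have h := FibCrit.fiberMap_flat_iff g (AffineSpace (ULift.{u} (Fin d)) Y ↘ Y) _
    ((g ≫ (AffineSpace (ULift.{u} (Fin d)) Y ↘ Y)).asFiber u)
  rw [(g ≫ (AffineSpace (ULift.{u} (Fin d)) Y ↘ Y)).fiberι_asFiber u] at h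
  exact h.symm

end Chart

theorem flat_affineSpace (σ : Type u) : Flat (AffineSpace σ Y ↘ Y) :=
  MorphismProperty.pullback_fst (P := @Flat) _ _ <| by
  have := isIso_of_isTerminal specULiftZIsTerminal.{u} terminalIsTerminal (terminal.from _)
  rw [← terminal.comp_from (Spec.map (CommRingCat.ofHom MvPolynomial.C)),
    MorphismProperty.cancel_right_of_respectsIso (P := @Flat),
    HasRingHomProperty.Spec_iff (P := @Flat)]
  exact RingHom.flat_algebraMap_iff.mpr inferInstance

theorem ringKrullDim_stalk_eq_of_subsingleton (p : X ⟶ Y) [Subsingleton Y] [IsLocallyNoetherian Y]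
    [LocallyOfFiniteType p] (x : X) {b : ℕ}
    (hb : ringKrullDim ((p.fiber (p x)).presheaf.stalk (p.asFiber x)) = (b : WithBot ℕ∞)) :
    ringKrullDim (X.presheaf.stalk x) = (b : WithBot ℕ∞) := by
  haveI : IsLocallyNoetherian X := LocallyOfFiniteType.isLocallyNoetherian p
  obtain ⟨A, hA, hAle, -, -, -, c, hc, -, hcl⟩ := exists_ringKrullDim_stalk x
  refine le_antisymm ((ringKrullDim_stalk_le_iff x).mpr fun n g hg hgl => ?_) ?_
  · exact (ringKrullDim_fiber_stalk_le_iff p x).mp hb.le n g hg (fun i => Subsingleton.elim _ _) hgl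
  · rw [← hb, hA]
    exact (ringKrullDim_fiber_stalk_le_iff p x).mpr fun n g hg _ hgl => hAle n g hg hgl

/-- Over a field: a quasi-finite map to a scheme with chains of length at most `d`, at a point where
the dimension is at least `d`, does not lower the dimension of local rings. -/
theorem ringKrullDim_stalk_le_of_lqf {F P B : Scheme.{u}} [Subsingleton B] [IsLocallyNoetherian B]
    (k : F ⟶ P) [LocallyQuasiFinite k] (p : P ⟶ B) [LocallyOfFiniteType p] [LocallyOfFiniteType (k ≫ p)]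
    (z : F) {d : ℕ} (hP : ∀ y, ChainsLE p Set.univ y d)
    (hF : ∀ O : F.Opens, z ∈ O → HasChain (k ≫ p) O ((k ≫ p) z) d) :
    ringKrullDim (P.presheaf.stalk (k z)) ≤ ringKrullDim (F.presheaf.stalk z) := by
  obtain ⟨bP, δP, hbP, hDP, hδPle, -, -⟩ := exists_fibre_dims p (k z)
  obtain ⟨bF, δF, hbF, hDF, -, ⟨c, hc, hc'⟩, -⟩ := exists_fibre_dims (k ≫ p) z
  have h1 : bP + δP ≤ d := by
    have h : FlatMor.fibreDimAt p (k z) ≤ (d : WithBot ℕ∞) :=
      (fibreDimAt_le_iff p (k z)).mpr ⟨⊤, trivial, (hP _).mono (Set.subset_univ _)⟩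
    rw [hDP] at h
    exact_mod_cast h
  have h2 : d ≤ bF + δF := by
    have h := (natCast_le_fibreDimAt_iff (k ≫ p) z).mpr hF
    rw [hDF] at h
    exact_mod_cast h
  have h3 : δF ≤ δP := hδPle δF (fun i => k (c i))
    (fun i => ⟨((specializes_iff_mem_closure.mpr (hc i).1).map k.continuous).mem_closure, Subsingleton.elim _ _⟩)
    fun i => ⟨(hc' i).1.map k.continuous, fun e => (hc' i).2 (EquidimPt.eq_of_specializes k (hc' i).1 e)⟩
  rw [ringKrullDim_stalk_eq_of_subsingleton p (k z) hbP, ringKrullDim_stalk_eq_of_subsingleton (k ≫ p) z hbF]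
  exact_mod_cast (show bP ≤ bF by omega)

/-- The dimension of the fibre of affine space at the image is at most that of the source. -/
theorem ringKrullDim_fibre_stalk_le (f : X ⟶ Y) [LocallyOfFiniteType f] {x : X} {d : ℕ} {U : X.Opens}
    (hxU : x ∈ U) (g : (U : Scheme.{u}) ⟶ AffineSpace (ULift.{u} (Fin d)) Y) [LocallyQuasiFinite g]
    (hg : g ≫ (AffineSpace (ULift.{u} (Fin d)) Y ↘ Y) = U.ι ≫ f)
    (hd : FlatMor.fibreDimAt f x = (d : WithBot ℕ∞)) :
    let π := AffineSpace (ULift.{u} (Fin d)) Y ↘ Y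
    ringKrullDim ((π.fiber ((g ≫ π) ⟨x, hxU⟩)).presheaf.stalk
        (MoreMor.fiberMap g π ((g ≫ π) ⟨x, hxU⟩) ((g ≫ π).asFiber ⟨x, hxU⟩))) ≤
      ringKrullDim (((g ≫ π).fiber ((g ≫ π) ⟨x, hxU⟩)).presheaf.stalk ((g ≫ π).asFiber ⟨x, hxU⟩)) := by
  intro π
  haveI : LocallyOfFiniteType (g ≫ π) := by rw [hg]; infer_instance
  let u : (U : Scheme.{u}) := ⟨x, hxU⟩
  let s := (g ≫ π) u
  let k := MoreMor.fiberMap g π s
  let p := π.fiberToSpecResidueField s
  haveI : LocallyOfFiniteType p := MorphismProperty.pullback_snd (P := @LocallyOfFiniteType) _ _ inferInstance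
  have hk : k ≫ p = (g ≫ π).fiberToSpecResidueField s := pullback.lift_snd _ _ _
  haveI : LocallyOfFiniteType (k ≫ p) := by
    rw [hk]; exact MorphismProperty.pullback_snd (P := @LocallyOfFiniteType) _ _ inferInstance
  haveI : LocallyQuasiFinite k := by
    rw [show k = _ from (FibCrit.isPullback_fiberMap g π s).isoPullback_hom_snd.symm]
    infer_instance
  refine ringKrullDim_stalk_le_of_lqf (d := d) k p ((g ≫ π).asFiber u) (fun y n c hc hc' => ?_) (fun O hO => ?_)
  · have hπ : ∀ w, π (π.fiberι s w) = s := fun w => by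
      have : π.fiberι s w ∈ Set.range (π.fiberι s) := ⟨w, rfl⟩
      rwa [Scheme.Hom.range_fiberι] at this
    exact chainsLE_affineSpace d s n (fun i => π.fiberι s (c i)) (fun i => ⟨trivial, hπ _⟩) fun i =>
      ⟨(hc' i).1.map (π.fiberι s).continuous, fun e => (hc' i).2 ((π.fiberι s).isEmbedding.injective e)⟩
  · let j := (g ≫ π).fiberι s ≫ U.ι
    have hje : IsEmbedding j := U.ι.isEmbedding.comp ((g ≫ π).fiberι s).isEmbedding
    obtain ⟨O', hO', hOO'⟩ := hje.isInducing.isOpen_iff.mp O.2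
    have hju : j ((g ≫ π).asFiber u) = x :=
      (Scheme.Hom.comp_apply _ _ _).trans (congrArg U.ι ((g ≫ π).fiberι_asFiber u))
    have hxO' : x ∈ O' := hju ▸ hOO'.ge hO
    obtain ⟨c, hc, hc'⟩ := (natCast_le_fibreDimAt_iff f x).mp hd.ge (⟨O', hO'⟩ ⊓ U) ⟨hxO', hxU⟩
    have hs : s = f x := by
      show (g ≫ π) u = _
      rw [hg]; rfl
    have hmem : ∀ i, (⟨c i, (hc i).1.2⟩ : (U : Scheme.{u})) ∈ Set.range ((g ≫ π).fiberι s) := fun i => by
      rw [Scheme.Hom.range_fiberι]
      show (g ≫ π) _ = s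
      rw [hg, hs]
      exact (hc i).2
    choose b hb using hmem
    have hjb : ∀ i, j (b i) = c i := fun i => (Scheme.Hom.comp_apply _ _ _).trans (congrArg U.ι (hb i))
    refine ⟨b, fun i => ⟨hOO'.le (show j (b i) ∈ O' by rw [hjb]; exact (hc i).1.1), Subsingleton.elim _ _⟩,
      fun i => ⟨hje.isInducing.specializes_iff.mp (by rw [hjb, hjb]; exact (hc' i).1),
        fun e => (hc' i).2 (by rw [← hjb, ← hjb, e])⟩⟩

/-- A quasi-finite chart flat at a point makes the morphism Cohen–Macaulay there. -/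
theorem isCMAt_of_chart (f : X ⟶ Y) [LocallyOfFinitePresentation f] {x : X} {d : ℕ} {U : X.Opens}
    (hx : x ∈ U) (g : (U : Scheme.{u}) ⟶ AffineSpace (ULift.{u} (Fin d)) Y)
    (hg : g ≫ (AffineSpace (ULift.{u} (Fin d)) Y ↘ Y) = U.ι ≫ f) [LocallyQuasiFinite g]
    (hflat : (g.stalkMap ⟨x, hx⟩).hom.Flat) : MoreMor.IsCMAt f x := by
  let π := AffineSpace (ULift.{u} (Fin d)) Y ↘ Y
  let u : (U : Scheme.{u}) := ⟨x, hx⟩
  haveI : LocallyOfFinitePresentation (g ≫ π) := by rw [hg]; infer_instance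
  haveI : Flat π := flat_affineSpace _
  obtain ⟨hfl, hfib⟩ := (FibCrit.pointwise g π u).mpr ⟨Flat.stalkMap π (g u), hflat⟩
  refine ⟨?_, ?_⟩
  · have h1 : ((U.ι ≫ f).stalkMap u).hom.Flat := by
      have : ∀ (h : (U : Scheme.{u}) ⟶ Y), h = U.ι ≫ f → (h.stalkMap u).hom.Flat → ((U.ι ≫ f).stalkMap u).hom.Flat := by
        rintro h rfl h'; exact h'
      exact this _ hg hfl
    erw [Scheme.Hom.stalkMap_comp, CommRingCat.hom_comp] at h1
    have hI : IsIso (U.ι.stalkMap u) := inferInstance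
    exact (@RingHom.RespectsIso.cancel_right_isIso _ RingHom.Flat.respectsIso _ _ _ (f.stalkMap x) (U.ι.stalkMap u) hI).mp h1
  · refine (isCM_fiber_iff f U (g ≫ π) hg u).mp ?_
    rw [fibFlat_iff] at hfib
    let k := MoreMor.fiberMap g π ((g ≫ π) u)
    let z := (g ≫ π).asFiber u
    letI := (k.stalkMap z).hom.toAlgebra
    haveI : LocallyOfFiniteType ((g ≫ π).fiberToSpecResidueField ((g ≫ π) u)) :=
      MorphismProperty.pullback_snd (P := @LocallyOfFiniteType) _ _ inferInstance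
    haveI : IsLocallyNoetherian ((g ≫ π).fiber ((g ≫ π) u)) :=
      LocallyOfFiniteType.isLocallyNoetherian ((g ≫ π).fiberToSpecResidueField _)
    haveI := isRegularLocalRing_fiber_stalk (ULift.{u} (Fin d)) ((g ≫ π) u) (k z)
    haveI : IsLocalHom (algebraMap ((π.fiber ((g ≫ π) u)).presheaf.stalk (k z))
      (((g ≫ π).fiber ((g ≫ π) u)).presheaf.stalk z)) :=
      inferInstanceAs (IsLocalHom (k.stalkMap z).hom)
    haveI : Module.Flat ((π.fiber ((g ≫ π) u)).presheaf.stalk (k z))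
      (((g ≫ π).fiber ((g ≫ π) u)).presheaf.stalk z) := hfib
    exact isCohenMacaulayLocalRing_of_flat (R := (π.fiber ((g ≫ π) u)).presheaf.stalk (k z))
      (fibre_facts d g u)

/-- A Cohen–Macaulay morphism has quasi-finite charts flat at the given point. -/
theorem exists_chart_of_isCMAt (f : X ⟶ Y) [LocallyOfFinitePresentation f] {x : X}
    (h : MoreMor.IsCMAt f x) :
    ∃ (d : ℕ) (U : X.Opens) (hx : x ∈ U) (g : (U : Scheme.{u}) ⟶ AffineSpace (ULift.{u} (Fin d)) Y),
      g ≫ (AffineSpace (ULift.{u} (Fin d)) Y ↘ Y) = U.ι ≫ f ∧ LocallyQuasiFinite g ∧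
        (g.stalkMap ⟨x, hx⟩).hom.Flat := by
  obtain ⟨D, hD⟩ := exists_fibreDimAt_eq f x
  obtain ⟨U₀, hxU₀, hU₀⟩ := (fibreDimAt_le_iff f x).mp hD.le
  obtain ⟨U, g, hxU, -, hg, hqf, -⟩ := exists_quasiFinite_of_chainsLE f hxU₀ hU₀
  refine ⟨D, U, hxU, g, hg, hqf, ?_⟩
  let π := AffineSpace (ULift.{u} (Fin D)) Y ↘ Y
  let u : (U : Scheme.{u}) := ⟨x, hxU⟩
  haveI : LocallyOfFinitePresentation (g ≫ π) := by rw [hg]; infer_instance
  refine ((FibCrit.pointwise g π u).mp ⟨?_, ?_⟩).2
  · have key : ∀ (h' : (U : Scheme.{u}) ⟶ Y), h' = U.ι ≫ f → (h'.stalkMap u).hom.Flat := by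
      rintro h' rfl
      erw [Scheme.Hom.stalkMap_comp, CommRingCat.hom_comp]
      exact RingHom.Flat.comp h.1 (Flat.stalkMap U.ι u)
    exact key _ hg
  · rw [fibFlat_iff]
    let s := (g ≫ π) u
    let k := MoreMor.fiberMap g π s
    let z := (g ≫ π).asFiber u
    letI := (k.stalkMap z).hom.toAlgebra
    haveI := isRegularLocalRing_fiber_stalk (ULift.{u} (Fin D)) s (k z)
    haveI := (isCM_fiber_iff f U (g ≫ π) hg u).mpr h.2
    haveI : IsLocalHom (algebraMap ((π.fiber s).presheaf.stalk (k z))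
      (((g ≫ π).fiber s).presheaf.stalk z)) := inferInstanceAs (IsLocalHom (k.stalkMap z).hom)
    refine flat_of_cohenMacaulay (R := (π.fiber s).presheaf.stalk (k z)) (fibre_facts D g u) ?_
    exact ringKrullDim_fibre_stalk_le f hxU g hg hD

end Groth.Agent.CMChart
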