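import Groth.Agent.CMChart.LocalDim
import Groth.Agent.CMChart.Scheme
import Groth.Prelude.Def_Cyc

/-!
# The Cohen–Macaulay locus of a morphism and relative dimensions
-/

set_option autoImplicit false
universe u

open CategoryTheory AlgebraicGeometry Topology TopologicalSpace Limits
open Groth.Agent Groth.Agent.Unibranch Groth.Agent.EquidimPt

namespace Groth.Agent.CMChart

variable {X Y : Scheme.{u}}

/-- Around a Cohen–Macaulay point there is a flat quasi-finite chart, all of whose points are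
Cohen–Macaulay, of relative dimension equal to the dimension of the fibre. -/
theorem exists_cm_nhd (f : X ⟶ Y) [LocallyOfFinitePresentation f] {x : X} (h : MoreMor.IsCMAt f x) :
    ∃ (d : ℕ) (U : X.Opens) (g : (U : Scheme.{u}) ⟶ AffineSpace (ULift.{u} (Fin d)) Y),
      x ∈ U ∧ g ≫ (AffineSpace (ULift.{u} (Fin d)) Y ↘ Y) = U.ι ≫ f ∧ LocallyQuasiFinite g ∧ Flat g ∧
        ∀ z ∈ U, MoreMor.IsCMAt f z ∧ FlatMor.fibreDimAt f z = (d : WithBot ℕ∞) := by
  obtain ⟨d, U₀, hxU₀, g₀, hg₀, hqf, hflat⟩ := exists_chart_of_isCMAt f h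
  obtain ⟨U, g, hxU, hg, hq, hf, hp⟩ := exists_flat_chart_of_flatAt f hxU₀ g₀ hg₀ hflat
  refine ⟨d, U, g, hxU, hg, hq, hf, fun z hz => ⟨isCMAt_of_chart f hz g hg (Flat.stalkMap g _), ?_⟩⟩
  exact le_antisymm ((fibreDimAt_le_iff f z).mpr ⟨U, hz, chainsLE_of_quasiFinite f U g hg _⟩)
    (le_fibreDimAt_of_chart f g hg hz)

theorem isOpen_isCMAt (f : X ⟶ Y) [LocallyOfFinitePresentation f] :
    IsOpen {x : X | MoreMor.IsCMAt f x} :=
  isOpen_iff_forall_mem_open.mpr fun _ hx =>
    let ⟨_, U, _, hxU, _, _, _, h⟩ := exists_cm_nhd f hx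
    ⟨U, fun z hz => (h z hz).1, U.2, hxU⟩

/-- A zero-dimensional noetherian local ring is Cohen–Macaulay. -/
theorem isCohenMacaulayLocalRing_of_dim_zero {R : Type u} [CommRing R] [IsLocalRing R] [IsNoetherianRing R]
    (h : ringKrullDim R = 0) : LocCoh.IsCohenMacaulayLocalRing R := by
  have h0 : LocCoh.depth R R = 0 := by
    by_contra hne
    have h1 : ((1 : ℕ) : ℕ∞) ≤ LocCoh.depth R R :=
      Order.one_le_iff_pos.mpr (pos_iff_ne_zero.mpr hne)
    obtain ⟨p, hp⟩ := associatedPrimes.nonempty R R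
    have h2 := (CMSop.le_ringKrullDim_quotient_of_hasRegSeq 1 inferInstance
      (CMSop.hasRegSeq_of_depth h1) p hp).trans (ringKrullDim_le_of_surjective _ Ideal.Quotient.mk_surjective)
    rw [h] at h2
    exact absurd h2 (by simp)
  refine { supportDim_eq_depth := ?_ }
  rw [Module.supportDim_self_eq_ringKrullDim, h, h0]
  rfl

/-- A flat morphism is Cohen–Macaulay at the maximal points of its fibres. -/
theorem isCMAt_of_isMaxPt (f : X ⟶ Y) [Flat f] [LocallyOfFiniteType f] {s : Y} {w : f.fiber s}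
    (hw : IsMaxPt w) : MoreMor.IsCMAt f (f.fiberι s w) := by
  refine ⟨Flat.stalkMap f _, ?_⟩
  haveI : LocallyOfFiniteType (f.fiberToSpecResidueField s) :=
    MorphismProperty.pullback_snd (P := @LocallyOfFiniteType) _ _ inferInstance
  haveI : IsLocallyNoetherian (f.fiber s) :=
    LocallyOfFiniteType.isLocallyNoetherian (f.fiberToSpecResidueField s)
  have hdim : ringKrullDim ((f.fiber s).presheaf.stalk w) = 0 := by
    refine le_antisymm ?_ ringKrullDim_nonneg_of_nontrivial
    refine Order.krullDim_nonpos_iff_forall_isMax.mpr fun (Q : PrimeSpectrum ((f.fiber s).presheaf.stalk w)) => ?_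
    intro P hPQ
    have hQ : ∀ Q, (f.fiber s).fromSpecStalk w Q = w := fun Q => hw _ (by
      have : (f.fiber s).fromSpecStalk w Q ∈ Set.range ((f.fiber s).fromSpecStalk w) := ⟨Q, rfl⟩
      rwa [Scheme.range_fromSpecStalk] at this)
    exact le_of_eq (((f.fiber s).fromSpecStalk w).isEmbedding.injective ((hQ P).trans (hQ Q).symm))
  have hs : f (f.fiberι s w) = s := by
    have : f.fiberι s w ∈ Set.range (f.fiberι s) := ⟨w, rfl⟩
    rwa [Scheme.Hom.range_fiberι] at this
  have key : ∀ (y : Y) (hy : y = s) (v : f.fiber y), f.fiberι y v = f.fiberι s w →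
      LocCoh.IsCohenMacaulayLocalRing ((f.fiber y).presheaf.stalk v) := by
    rintro y rfl v hv
    obtain rfl := (f.fiberι _).isEmbedding.injective hv
    exact isCohenMacaulayLocalRing_of_dim_zero hdim
  exact key _ hs _ (f.fiberι_asFiber _)

theorem dense_isCMAt_fibre (f : X ⟶ Y) [Flat f] [LocallyOfFinitePresentation f] (s : Y) :
    Dense ((f.fiberι s) ⁻¹' {x : X | MoreMor.IsCMAt f x}) := by
  intro w
  obtain ⟨m, hm, hmw⟩ := exists_isMaxPt_specializes w
  exact closure_mono (Set.singleton_subset_iff.mpr (show m ∈ (f.fiberι s) ⁻¹' {x : X | MoreMor.IsCMAt f x} from isCMAt_of_isMaxPt f hm)) hmw.mem_closure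

theorem isLocallyConstant_fibreDimAt (f : X ⟶ Y) [LocallyOfFinitePresentation f]
    (hcm : ∀ x, MoreMor.IsCMAt f x) : IsLocallyConstant fun x : X => FlatMor.fibreDimAt f x := by
  refine (IsLocallyConstant.iff_exists_open _).mpr fun x => ?_
  obtain ⟨d, U, _, hxU, -, -, -, h⟩ := exists_cm_nhd f (hcm x)
  exact ⟨U, U.2, hxU, fun z hz => (h z hz).2.trans (h x hxU).2.symm⟩

/-- Quasi-finite flat maps preserve the local dimension. -/
theorem localDim_eq_of_lqf (f : X ⟶ Y) [LocallyQuasiFinite f] [Flat f] [LocallyOfFinitePresentation f]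
    (x : X) : FlatMor.localDim X x = FlatMor.localDim Y (f x) := by
  refine le_antisymm (le_of_forall_natCast_le fun n hn => (natCast_le_localDim _).mpr fun V hV => ?_)
    (le_of_forall_natCast_le fun n hn => (natCast_le_localDim x).mpr fun W hW => ?_)
  · obtain ⟨c, hcV, hc⟩ := (natCast_le_localDim x).mp hn (f ⁻¹ᵁ V) hV
    exact ⟨fun i => f (c i), hcV, fun i => ⟨(hc i).1.map f.continuous,
      fun e => (hc i).2 (EquidimPt.eq_of_specializes f (hc i).1 e)⟩⟩
  · obtain ⟨b, hbV, hb⟩ := (natCast_le_localDim _).mp hn ⟨f '' W, f.isOpenMap _ W.2⟩ ⟨x, hW, rfl⟩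
    obtain ⟨c, hc, hc'⟩ := exists_lift (ι := 𝟙 X) (O := W) f b hb hbV
    exact ⟨c, fun i => (hc i).1, fun i => ⟨hc' i,
      fun e => (hb i).2 ((hc i.castSucc).2.symm.trans ((congrArg f e).trans (hc i.succ).2))⟩⟩

/-- Relative dimension `d` means fibre dimension `d` at every point. -/
theorem fibreDimAt_of_hasRelDim (f : X ⟶ Y) [LocallyOfFiniteType f] {d : ℕ} (hd : Cyc.HasRelDim f d) (x : X) :
    FlatMor.fibreDimAt f x = (d : WithBot ℕ∞) := by
  have hpt : ∀ {y : Y} (w : f.fiber y), f (f.fiberι y w) = y := fun {y} w => by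
    have : f.fiberι y w ∈ Set.range (f.fiberι y) := ⟨w, rfl⟩
    rwa [Scheme.Hom.range_fiberι] at this
  refine le_antisymm ((fibreDimAt_le_iff f x).mpr ⟨⊤, trivial, fun k c hc hc' => ?_⟩) ?_
  · have hmem : ∀ i, c i ∈ Set.range (f.fiberι (f x)) := fun i => by
      rw [Scheme.Hom.range_fiberι]; exact (hc i).2
    choose b hb using hmem
    have hb' : IsChain' b := fun i => ⟨(f.fiberι (f x)).isEmbedding.isInducing.specializes_iff.mp
      (by rw [hb, hb]; exact (hc' i).1), fun e => (hc' i).2 (by rw [← hb, ← hb, e])⟩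
    obtain ⟨m, hm, hmb⟩ := exists_isMaxPt_specializes (b 0)
    haveI : QuasiSober (closure ({m} : Set (f.fiber (f x)))) :=
      isClosed_closure.isClosedEmbedding_subtypeVal.quasiSober
    have hle := natCast_le_topologicalKrullDim
      (fun i => (⟨b i, (hmb.trans (specializes_of_chain b hb' i)).mem_closure⟩ : closure ({m} : Set (f.fiber (f x)))))
      fun i => ⟨IsInducing.subtypeVal.specializes_iff.mp (hb' i).1, fun e => (hb' i).2 (congrArg Subtype.val e)⟩
    rw [hd _ _ hm.mem_irreducibleComponents] at hle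
    exact_mod_cast hle
  · obtain ⟨m, hm, hmx⟩ := exists_isMaxPt_specializes (f.asFiber x)
    haveI : QuasiSober (closure ({m} : Set (f.fiber (f x)))) :=
      isClosed_closure.isClosedEmbedding_subtypeVal.quasiSober
    obtain ⟨c, hc⟩ := exists_chain_of_le_topologicalKrullDim (hd _ _ hm.mem_irreducibleComponents).ge
    have hmxX : f.fiberι (f x) m ⤳ x :=
      (hmx.map (f.fiberι (f x)).continuous).trans (specializes_of_eq (f.fiberι_asFiber x))
    refine (natCast_le_fibreDimAt_iff f x).mpr fun O hxO =>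
      hasChain_opens_of_lift hmxX (hpt m) ⟨fun i => f.fiberι (f x) (c i).1, fun i => ⟨?_, hpt _⟩,
        fun i => ⟨(hc i).1.map ((f.fiberι (f x)).continuous.comp continuous_subtype_val),
          fun e => (hc i).2 (Subtype.ext ((f.fiberι (f x)).isEmbedding.injective e))⟩⟩ hxO
    exact ((specializes_iff_mem_closure.mpr (c i).2).map (f.fiberι (f x)).continuous).mem_closure

theorem localDim_eq_of_hasRelDim [IsLocallyNoetherian Y] (f : X ⟶ Y) [Flat f] [LocallyOfFiniteType f]
    {d : ℕ} (hd : Cyc.HasRelDim f d) (x : X) :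
    FlatMor.localDim X x = FlatMor.localDim Y (f x) + (d : WithBot ℕ∞) := by
  haveI : LocallyOfFinitePresentation f := LocallyOfFinitePresentation.iff_locallyOfFiniteType.mpr ‹_›
  refine le_antisymm ?_
    (le_localDim_of_flat f x (U := ⊤) trivial fun a _ => (fibreDimAt_of_hasRelDim f hd a).ge)
  obtain ⟨U₀, hxU₀, hU₀⟩ := (fibreDimAt_le_iff f x).mp (fibreDimAt_of_hasRelDim f hd x).le
  obtain ⟨U, g, hxU, -, hg, _, -⟩ := exists_quasiFinite_of_chainsLE f hxU₀ hU₀
  exact localDim_le_of_chart f g hg hxU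

end Groth.Agent.CMChart
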