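import Groth.Agent.CMChart.Locus
import Groth.Agent.DimFormula.Dims
import Groth.Agent.DimFormula.ResTrdeg
import Groth.Prelude.Def_CurvBase
import Mathlib.RingTheory.AlgebraicIndependent.TranscendenceBasis

/-!
# Schemes over a field: fibre statements become absolute
-/

set_option autoImplicit false
universe u

open CategoryTheory AlgebraicGeometry Topology TopologicalSpace Limits
open Groth.Agent Groth.Agent.Unibranch Groth.Agent.DimFormula

namespace Groth.Agent.CMChart

variable {k : Type u} [Field k]

theorem isIso_fromSpecResidueField_field (p : Spec (CommRingCat.of k)) :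
    IsIso ((Spec (CommRingCat.of k)).fromSpecResidueField p) := by
  haveI : IsClosedImmersion ((Spec (CommRingCat.of k)).fromSpecResidueField p) :=
    isClosed_singleton_iff_isClosedImmersion.1 (isClosed_discrete _)
  haveI : Surjective ((Spec (CommRingCat.of k)).fromSpecResidueField p) :=
    ⟨fun q => ⟨IsLocalRing.closedPoint _,
      (Scheme.fromSpecResidueField_apply p _).trans (Subsingleton.elim (α := PrimeSpectrum k) _ _)⟩⟩
  exact isIso_of_isClosedImmersion_of_surjective _

variable {X : Scheme.{u}} (f : X ⟶ Spec (CommRingCat.of k))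

theorem isIso_fiberι_field (p : Spec (CommRingCat.of k)) : IsIso (f.fiberι p) :=
  haveI := isIso_fromSpecResidueField_field p
  pullback_fst_iso_of_right_iso _ _

/-- The stalk of the fibre over the point of a field is the stalk. -/
theorem nonempty_stalk_fiber_equiv (x : X) :
    Nonempty ((X.presheaf.stalk x : Type u) ≃+* ((f.fiber (f x)).presheaf.stalk (f.asFiber x) : Type u)) := by
  haveI := isIso_fiberι_field f (f x)
  have key : ∀ z : X, f.fiberι (f x) (f.asFiber x) = z →
      Nonempty ((X.presheaf.stalk z : Type u) ≃+* ((f.fiber (f x)).presheaf.stalk (f.asFiber x) : Type u)) := by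
    rintro z rfl
    exact ⟨(asIso ((f.fiberι (f x)).stalkMap (f.asFiber x))).commRingCatIsoToRingEquiv⟩
  exact key x (f.fiberι_asFiber x)

theorem isCMAt_iff_stalk (x : X) :
    MoreMor.IsCMAt f x ↔ LocCoh.IsCohenMacaulayLocalRing (X.presheaf.stalk x) := by
  obtain ⟨e⟩ := nonempty_stalk_fiber_equiv f x
  exact ⟨fun h => isCohenMacaulayLocalRing_of_ringEquiv e.symm h.2,
    fun h => ⟨Flat.stalkMap f x, isCohenMacaulayLocalRing_of_ringEquiv e h⟩⟩

theorem fibreDimAt_eq_localDim (x : X) : FlatMor.fibreDimAt f x = FlatMor.localDim X x := by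
  haveI := isIso_fiberι_field f (f x)
  refine (localDim_eq_of_lqf (f.fiberι (f x)) (f.asFiber x)).trans ?_
  rw [f.fiberι_asFiber x]

/-- The local dimension over a field is the dimension of the local ring plus the transcendence degree. -/
theorem localDim_field_eq [LocallyOfFiniteType f] (x : X) :
    ∃ b δ : ℕ, ringKrullDim (X.presheaf.stalk x) = (b : WithBot ℕ∞) ∧
      FlatMor.localDim X x = ((b + δ : ℕ) : WithBot ℕ∞) ∧
      @Algebra.trdeg ((Spec (CommRingCat.of k)).residueField (f x)) (X.residueField x) _ _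
        (f.residueFieldMap x).hom.toAlgebra = (δ : Cardinal.{u}) ∧
      (IsClosed ({x} : Set X) → δ = 0) := by
  obtain ⟨b, δ, hb, hD, hle, hhas, -, -⟩ := exists_fibre_dims f x
  obtain ⟨δ', hδ', hle', hhas'⟩ := exists_trdeg_eq f x
  obtain ⟨e⟩ := nonempty_stalk_fiber_equiv f x
  refine ⟨b, δ, (ringKrullDim_eq_of_ringEquiv e).trans hb, (fibreDimAt_eq_localDim f x).symm.trans hD, ?_, ?_⟩
  · rw [hδ', le_antisymm (hhas.le hle') (hhas'.le hle)]
  · intro hx
    obtain ⟨c, hc, hc'⟩ := hhas
    rcases Nat.eq_zero_or_pos δ with h | h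
    · exact h
    obtain ⟨m, rfl⟩ : ∃ m, δ = m + 1 := ⟨δ - 1, by omega⟩
    refine absurd ?_ (hc' 0).2
    exact ((hx.closure_eq ▸ (hc _).1 : c (Fin.castSucc 0) ∈ ({x} : Set X))).trans
      ((hx.closure_eq ▸ (hc _).1 : c (Fin.succ 0) ∈ ({x} : Set X))).symm

end Groth.Agent.CMChart

namespace Groth.Agent.CMChart

variable {k : Type u} [Field k]

/-- The base field maps onto the residue field of its point. -/
theorem bijective_evaluation_field (p : Spec (CommRingCat.of k)) :
    Function.Bijective (((Spec (CommRingCat.of k)).Γevaluation p).hom.comp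
      (Scheme.ΓSpecIso (CommRingCat.of k)).inv.hom) := by
  refine ⟨RingHom.injective _, fun z => ?_⟩
  obtain ⟨b, d, hd, hz⟩ := (DimFormula.evaluation_facts (isAffineOpen_top (Spec (CommRingCat.of k)))
    (x := p) trivial).2 z
  let e := (Scheme.ΓSpecIso (CommRingCat.of k)).commRingCatIsoToRingEquiv
  refine ⟨e b / e d, ?_⟩
  rw [map_div₀]
  show (((Spec (CommRingCat.of k)).evaluation ⊤ p trivial).hom (e.symm (e b))) /
    (((Spec (CommRingCat.of k)).evaluation ⊤ p trivial).hom (e.symm (e d))) = z
  rw [e.symm_apply_apply, e.symm_apply_apply, div_eq_iff hd, hz]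

/-- Transcendence degrees do not change along a bijective map of base fields. -/
theorem trdeg_eq_of_bijective {K L : Type u} [Field K] [Field L] [Algebra k K] [Algebra K L] [Algebra k L]
    [IsScalarTower k K L] (h : Function.Bijective (algebraMap k K)) :
    Algebra.trdeg k L = Algebra.trdeg K L := by
  haveI : Algebra.IsAlgebraic k K := ⟨fun z => by
    obtain ⟨c, rfl⟩ := h.2 z
    exact isAlgebraic_algebraMap c⟩
  rw [← trdeg_add_eq k K (A := L), trdeg_eq_zero, zero_add]

theorem localDim_over_field (X : Scheme.{u}) [X.Over (Spec (CommRingCat.of k))]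
    [LocallyOfFiniteType (X ↘ (Spec (CommRingCat.of k)))] (x : X) :
    ∃ b δ : ℕ, ringKrullDim (X.presheaf.stalk x) = (b : WithBot ℕ∞) ∧
      FlatMor.localDim X x = ((b + δ : ℕ) : WithBot ℕ∞) ∧
      @Algebra.trdeg k (X.residueField x) _ _ (Curv2.resAlgebra k X x) = (δ : Cardinal.{u}) := by
  let f := X ↘ (Spec (CommRingCat.of k))
  obtain ⟨b, δ, hb, hD, hδ, -⟩ := localDim_field_eq f x
  refine ⟨b, δ, hb, hD, ?_⟩
  letI := (((Spec (CommRingCat.of k)).Γevaluation (f x)).hom.comp
    (Scheme.ΓSpecIso (CommRingCat.of k)).inv.hom).toAlgebra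
  letI := (f.residueFieldMap x).hom.toAlgebra
  letI := Curv2.resAlgebra k X x
  haveI : IsScalarTower k ((Spec (CommRingCat.of k)).residueField (f x)) (X.residueField x) :=
    IsScalarTower.of_algebraMap_eq fun c =>
      (Scheme.Γevaluation_naturality_apply f x _).symm
  exact (trdeg_eq_of_bijective (bijective_evaluation_field (f x))).trans hδ

end Groth.Agent.CMChart
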