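import Groth.Agent.SerreReg.CM
import Mathlib.RingTheory.Regular.Flat
import Mathlib.RingTheory.Ideal.KrullsHeightTheorem

/-!
# Flatness and Cohen–Macaulayness over regular local rings with Artinian closed fibre
-/

set_option autoImplicit false
set_option linter.style.haveILetI false
universe u

open IsLocalRing RingTheory.Sequence

namespace Groth.Agent.CMChart

variable {R S : Type u} [CommRing R] [CommRing S] [Algebra R S] [IsLocalRing R] [IsLocalRing S]

variable (hfib : ∀ J : Ideal S, J.IsPrime → J.comap (algebraMap R S) = maximalIdeal R → J = maximalIdeal S)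

include hfib

theorem eq_maximalIdeal_of_map_le {J : Ideal S} (hJ : J.IsPrime)
    (h : (maximalIdeal R).map (algebraMap R S) ≤ J) : J = maximalIdeal S :=
  hfib J hJ (le_antisymm (le_maximalIdeal (Ideal.comap_ne_top _ hJ.ne_top))
    (Ideal.map_le_iff_le_comap.mp h))

/-- With a single prime over the closed point the dimension does not go up. -/
theorem ringKrullDim_le [IsLocalHom (algebraMap R S)] [IsNoetherianRing R] [IsNoetherianRing S] :
    ringKrullDim S ≤ ringKrullDim R := by
  let I := (maximalIdeal R).map (algebraMap R S)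
  have hI : I ≤ maximalIdeal S := (Ideal.map_le_iff_le_comap.mpr (maximalIdeal_comap (algebraMap R S)).ge)
  haveI : (maximalIdeal S).LiesOver (maximalIdeal R) :=
    ⟨(maximalIdeal_comap (algebraMap R S)).symm⟩
  haveI : ((maximalIdeal S).map (Ideal.Quotient.mk I)).IsPrime :=
    Ideal.map_isPrime_of_surjective Ideal.Quotient.mk_surjective (by rw [Ideal.mk_ker]; exact hI)
  have h0 : ((maximalIdeal S).map (Ideal.Quotient.mk I)).height = 0 := by
    rw [Ideal.height_eq_zero_iff]
    refine ⟨⟨inferInstance, bot_le⟩, fun J hJ _ => ?_⟩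
    haveI := hJ.1
    have h1 := eq_maximalIdeal_of_map_le hfib (J := J.comap (Ideal.Quotient.mk I)) inferInstance fun b hb => by
      show Ideal.Quotient.mk I b ∈ J
      rw [Ideal.Quotient.eq_zero_iff_mem.mpr hb]
      exact zero_mem _
    rw [← h1, Ideal.map_comap_of_surjective _ Ideal.Quotient.mk_surjective]
  have h := Ideal.height_le_height_add_of_liesOver (maximalIdeal R) (maximalIdeal S)
  rw [h0, add_zero] at h
  rw [← maximalIdeal_height_eq_ringKrullDim, ← maximalIdeal_height_eq_ringKrullDim]
  exact WithBot.coe_le_coe.mpr h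

/-- A flat algebra with Artinian closed fibre over a regular local ring is Cohen–Macaulay. -/
theorem isCohenMacaulayLocalRing_of_flat [IsRegularLocalRing R] [IsLocalHom (algebraMap R S)]
    [IsNoetherianRing S] [Module.Flat R S] : LocCoh.IsCohenMacaulayLocalRing S := by
  obtain ⟨d, hd⟩ := SerreReg.exists_dim_nat R
  obtain ⟨rs, hlen, hreg, hspan⟩ := SerreReg.exists_regular_rsop d R hd
  have hreg' : IsWeaklyRegular S (rs.map (algebraMap R S)) := hreg.of_flat
  have hmem : ∀ s ∈ rs.map (algebraMap R S), s ∈ maximalIdeal S := by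
    intro s hs
    obtain ⟨r, hr, rfl⟩ := List.mem_map.mp hs
    exact (Ideal.map_le_iff_le_comap.mpr (maximalIdeal_comap (algebraMap R S)).ge)
      (Ideal.mem_map_of_mem _ (hspan ▸ Ideal.subset_span hr))
  obtain ⟨n, hn⟩ := SerreReg.exists_dim_nat S
  have hnd : n ≤ d := by
    have := ringKrullDim_le hfib
    rw [hd, hn] at this
    exact_mod_cast this
  have hlow : (d : ℕ∞) ≤ LocCoh.depth S S := by
    rw [LocCoh.depth, LocCoh.idealDepth, if_neg (by
      rw [smul_eq_mul, Ideal.mul_top]; exact (maximalIdeal.isMaximal S).ne_top)]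
    exact le_iSup₂_of_le (rs.map (algebraMap R S)) ⟨hreg', hmem⟩ (by simp [hlen])
  have hup : ∀ k : ℕ, (k : ℕ∞) ≤ LocCoh.depth S S → k ≤ n := fun k hk => by
    obtain ⟨p, hp⟩ := (associatedPrimes.nonempty S S)
    have h := (CMSop.le_ringKrullDim_quotient_of_hasRegSeq k inferInstance
      (CMSop.hasRegSeq_of_depth hk) p hp).trans
      (ringKrullDim_le_of_surjective _ Ideal.Quotient.mk_surjective)
    rw [hn] at h
    exact_mod_cast h
  have hdn : d = n := le_antisymm (hup d hlow) hnd
  have hdepth : LocCoh.depth S S = (d : ℕ∞) := by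
    refine le_antisymm ?_ hlow
    by_contra hlt
    have h1 := hup (d + 1) (by
      push_cast
      exact Order.add_one_le_of_lt (lt_of_not_ge hlt))
    omega
  refine { supportDim_eq_depth := ?_ }
  rw [Module.supportDim_self_eq_ringKrullDim, hn, hdepth, hdn]
  rfl

/-- **Miracle flatness.** -/
theorem flat_of_cohenMacaulay [IsRegularLocalRing R] [IsLocalHom (algebraMap R S)]
    [LocCoh.IsCohenMacaulayLocalRing S] (hdim : ringKrullDim R ≤ ringKrullDim S) : Module.Flat R S := by
  obtain ⟨d, hd⟩ := SerreReg.exists_dim_nat R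
  obtain ⟨rs, hlen, hreg, hspan⟩ := SerreReg.exists_regular_rsop d R hd
  have hn : ringKrullDim S = d := le_antisymm (hd ▸ ringKrullDim_le hfib) (hd ▸ hdim)
  have hdepth : (d : ℕ∞) ≤ LocCoh.depth S S := by
    have h := LocCoh.IsCohenMacaulayLocalRing.supportDim_eq_depth (R := S)
    rw [Module.supportDim_self_eq_ringKrullDim, hn, ← WithBot.coe_natCast, WithBot.coe_inj] at h
    exact h.le
  let a : Fin d → S := fun i => algebraMap R S (rs[(i : ℕ)]'(hlen ▸ i.2))
  have hrange : Ideal.span (Set.range a) = (maximalIdeal R).map (algebraMap R S) := by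
    rw [← hspan, Ideal.map_ofList, Ideal.ofList]
    congr 1
    ext v
    simp only [Set.mem_range, Set.mem_ofPred_eq, List.mem_map]
    constructor
    · rintro ⟨i, rfl⟩
      exact ⟨_, List.getElem_mem (hlen ▸ i.2), rfl⟩
    · rintro ⟨r, hr, rfl⟩
      obtain ⟨i, hi, rfl⟩ := List.getElem_of_mem hr
      exact ⟨⟨i, hlen ▸ hi⟩, rfl⟩
  have hsop : CMSop.IsSop a := by
    rw [CMSop.IsSop, hrange, Ideal.radical_eq_sInf]
    refine le_antisymm (sInf_le ⟨(Ideal.map_le_iff_le_comap.mpr (maximalIdeal_comap (algebraMap R S)).ge),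
      (maximalIdeal.isMaximal S).isPrime⟩) (le_sInf ?_)
    rintro J ⟨hJ, hJp⟩
    exact (eq_maximalIdeal_of_map_le hfib hJp hJ).ge
  have h := SerreReg.isWeaklyRegular_take_of_isSop hsop (CMSop.hasRegSeq_of_depth hdepth) d
  have hlist : (List.ofFn a).take d = rs.map (algebraMap R S) := by
    rw [List.take_of_length_le (by simp)]
    refine List.ext_getElem (by simp [hlen]) fun i h1 h2 => ?_
    simp [a]
  rw [hlist, isWeaklyRegular_map_algebraMap_iff] at h
  exact SerreReg.flat_of_regular_rsop d R hd rs hlen hreg hspan S h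

end Groth.Agent.CMChart
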