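import Groth.Agent.CMChart.AffineField
import Groth.Agent.CMChart.Ring
import Groth.Agent.TopDim.Basic
import Mathlib.RingTheory.QuasiFinite.Basic
import Mathlib.RingTheory.RegularLocalRing.Polynomial

/-!
# Flatness over a polynomial ring over a field
-/

set_option autoImplicit false
set_option linter.style.haveILetI false
universe u

open CategoryTheory AlgebraicGeometry Topology TopologicalSpace Limits
open Groth.Agent Groth.Agent.Unibranch Groth.Agent.DimFormula Groth.Agent.EquidimPt

namespace Groth.Agent.CMChart

variable {k : Type u} [Field k]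

/-- The spectrum of a polynomial ring in `d` variables has local dimension `d` everywhere. -/
theorem localDim_mvPolynomial (d : ℕ) (p : PrimeSpectrum (MvPolynomial (Fin d) k)) :
    FlatMor.localDim (PrimeSpectrum (MvPolynomial (Fin d) k)) p = (d : WithBot ℕ∞) := by
  refine le_antisymm ((TopDim.localDim_le_dim p).trans ?_) ?_
  · rw [PrimeSpectrum.topologicalKrullDim_eq_ringKrullDim, MvPolynomial.ringKrullDim_of_isNoetherianRing,
      ringKrullDim_eq_zero_of_field, Nat.card_eq_fintype_card, Fintype.card_fin, zero_add]
  let σ := ULift.{u} (Fin d)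
  let r : CommRingCat.of (MvPolynomial (Fin d) k) ≅ CommRingCat.of (MvPolynomial σ k) :=
    (MvPolynomial.renameEquiv k Equiv.ulift.symm).toRingEquiv.toCommRingCatIso
  let Φ : AffineSpace σ (Spec (CommRingCat.of k)) ≅ Spec (CommRingCat.of (MvPolynomial (Fin d) k)) :=
    AffineSpace.SpecIso σ (CommRingCat.of k) ≪≫ Scheme.Spec.mapIso r.op
  let a := Φ.inv p
  have h1 := le_fibreDimAt_affineSpace (Y := Spec (CommRingCat.of k)) d a
  rw [fibreDimAt_eq_localDim, localDim_eq_of_lqf Φ.hom a,
    show Φ.hom a = p from (Scheme.Hom.comp_apply _ _ _).symm.trans congr($(Φ.inv_hom_id) p)] at h1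
  exact h1

variable {S : Type u} [CommRing S] [Algebra k S] [Algebra.FiniteType k S]

/-- **Flatness criterion over a polynomial ring.** -/
theorem flat_iff_cm_localDim (d : ℕ) [Algebra (MvPolynomial (Fin d) k) S]
    [IsScalarTower k (MvPolynomial (Fin d) k) S] [Algebra.QuasiFinite (MvPolynomial (Fin d) k) S]
    (q : Ideal S) [q.IsPrime] :
    Module.Flat (MvPolynomial (Fin d) k) (Localization.AtPrime q) ↔
      (LocCoh.IsCohenMacaulayLocalRing (Localization.AtPrime q) ∧
        FlatMor.localDim (PrimeSpectrum S) ⟨q, inferInstance⟩ = (d : WithBot ℕ∞)) := by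
  let P := MvPolynomial (Fin d) k
  haveI : IsNoetherianRing S := Algebra.FiniteType.isNoetherianRing k S
  let p := q.under P
  letI := Localization.AtPrime.algebraOfLiesOver p q
  haveI : IsRegularLocalRing (Localization.AtPrime p) := IsRegularRing.isRegularLocalRing_localization p
  have hcomap : (algebraMap (Localization.AtPrime p) (Localization.AtPrime q)) =
      Localization.localRingHom p q (algebraMap P S) rfl := rfl
  haveI : IsLocalHom (algebraMap (Localization.AtPrime p) (Localization.AtPrime q)) := by
    rw [hcomap]; infer_instance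
  have hfib : ∀ J : Ideal (Localization.AtPrime q), J.IsPrime →
      J.comap (algebraMap (Localization.AtPrime p) (Localization.AtPrime q)) = IsLocalRing.maximalIdeal _ →
        J = IsLocalRing.maximalIdeal _ := by
    intro J hJ hJc
    haveI := hJ
    have h1 : J.comap (algebraMap S (Localization.AtPrime q)) = q := by
      refine Algebra.QuasiFinite.eq_of_le_of_under_eq (R := P) _ q ?_ ?_
      · intro z hz
        by_contra hzq
        exact hJ.ne_top (Ideal.eq_top_of_isUnit_mem J hz
          (IsLocalization.map_units (Localization.AtPrime q) (⟨z, hzq⟩ : q.primeCompl)))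
      · show (J.comap (algebraMap S (Localization.AtPrime q))).comap (algebraMap P S) = _
        rw [Ideal.comap_comap, ← IsScalarTower.algebraMap_eq,
          IsScalarTower.algebraMap_eq P (Localization.AtPrime p) (Localization.AtPrime q), ← Ideal.comap_comap, hJc]
        exact Localization.AtPrime.comap_maximalIdeal
    rw [← IsLocalization.map_under q.primeCompl (Localization.AtPrime q) J]
    show (J.comap (algebraMap S (Localization.AtPrime q))).map _ = _
    rw [h1]
    exact Localization.AtPrime.map_eq_maximalIdeal
  have hflat : Module.Flat P (Localization.AtPrime q) ↔ Module.Flat (Localization.AtPrime p) (Localization.AtPrime q) :=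
    (Module.flat_iff_of_isLocalization (Localization.AtPrime p) p.primeCompl _).symm
  obtain ⟨b, δ, hb, hD, hδ⟩ := localDim_primeSpectrum (k := k) (⟨q, inferInstance⟩ : PrimeSpectrum S)
  obtain ⟨b', δ', hb', hD', hδ'⟩ := localDim_primeSpectrum (k := k) (⟨p, inferInstance⟩ : PrimeSpectrum P)
  rw [localDim_mvPolynomial, Nat.cast_inj] at hD'
  have hδe : δ = δ' := by
    haveI : Algebra.IsAlgebraic p.ResidueField q.ResidueField := Algebra.IsAlgebraic.of_finite _ _
    have h := trdeg_add_eq k p.ResidueField (A := q.ResidueField)
    rw [trdeg_eq_zero (R := p.ResidueField) (A := q.ResidueField), add_zero] at h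
    exact_mod_cast hδ.symm.trans (h.symm.trans hδ')
  constructor
  · intro h
    haveI := hflat.mp h
    refine ⟨isCohenMacaulayLocalRing_of_flat hfib, ?_⟩
    have h1 := ringKrullDim_le hfib
    haveI : Algebra.HasGoingDown (Localization.AtPrime p) (Localization.AtPrime q) := inferInstance
    haveI : (IsLocalRing.maximalIdeal (Localization.AtPrime q)).LiesOver (IsLocalRing.maximalIdeal (Localization.AtPrime p)) :=
      ⟨(IsLocalRing.maximalIdeal_comap _).symm⟩
    have h2 : ringKrullDim (Localization.AtPrime p) ≤ ringKrullDim (Localization.AtPrime q) := by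
      rw [← IsLocalRing.maximalIdeal_height_eq_ringKrullDim, ← IsLocalRing.maximalIdeal_height_eq_ringKrullDim,
        Ideal.height_eq_height_add_of_liesOver_of_hasGoingDown (IsLocalRing.maximalIdeal (Localization.AtPrime p))
          (IsLocalRing.maximalIdeal (Localization.AtPrime q))]
      exact WithBot.coe_le_coe.mpr le_self_add
    rw [hb, hb'] at h1 h2
    have e1 : b ≤ b' := by exact_mod_cast h1
    have e2 : b' ≤ b := by exact_mod_cast h2
    rw [hD]; congr 1; omega
  · rintro ⟨hcm, hdim⟩
    refine hflat.mpr (flat_of_cohenMacaulay hfib ?_)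
    rw [hD, Nat.cast_inj] at hdim
    rw [hb', hb]
    exact_mod_cast (show b' ≤ b by omega)

end Groth.Agent.CMChart
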