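import Groth.Agent.CMChart.OverField

/-!
# Local dimension of the spectrum of an algebra of finite type over a field
-/

set_option autoImplicit false
universe u

open CategoryTheory AlgebraicGeometry Topology TopologicalSpace Limits
open Groth.Agent Groth.Agent.Unibranch Groth.Agent.DimFormula

namespace Groth.Agent.CMChart

variable {k S : Type u} [Field k] [CommRing S] [Algebra k S] [Algebra.FiniteType k S]

theorem localDim_primeSpectrum (p : PrimeSpectrum S) :
    ∃ b δ : ℕ, ringKrullDim (Localization.AtPrime p.asIdeal) = (b : WithBot ℕ∞) ∧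
      FlatMor.localDim (PrimeSpectrum S) p = ((b + δ : ℕ) : WithBot ℕ∞) ∧
      Algebra.trdeg k p.asIdeal.ResidueField = (δ : Cardinal.{u}) := by
  let X := Spec (CommRingCat.of S)
  letI : X.Over (Spec (CommRingCat.of k)) := ⟨Spec.map (CommRingCat.ofHom (algebraMap k S))⟩
  haveI : LocallyOfFiniteType (X ↘ (Spec (CommRingCat.of k))) :=
    (HasRingHomProperty.Spec_iff (P := @LocallyOfFiniteType)).mpr (RingHom.finiteType_algebraMap.mpr inferInstance)
  obtain ⟨b, δ, hb, hD, hδ⟩ := localDim_over_field (k := k) X (p : X)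
  let e : Localization.AtPrime p.asIdeal ≃ₐ[S] (Spec.structureSheaf S).presheaf.stalk p :=
    StructureSheaf.stalkIso S p
  refine ⟨b, δ, (ringKrullDim_eq_of_ringEquiv e.toRingEquiv).trans hb, hD, ?_⟩
  letI := Curv2.resAlgebra k X (p : X)
  rw [← hδ]
  haveI : IsLocalRing ((Spec.structureSheaf S).presheaf.stalk p) := e.toRingEquiv.isLocalRing
  let er : p.asIdeal.ResidueField ≃+* X.residueField (p : X) :=
    IsLocalRing.ResidueField.mapEquiv e.toRingEquiv
  refine AlgEquiv.trdeg_eq (AlgEquiv.ofRingEquiv (f := er) fun c => ?_)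
  have h1 : (X ↘ (Spec (CommRingCat.of k))).appTop ((Scheme.ΓSpecIso (CommRingCat.of k)).inv c) =
      (Scheme.ΓSpecIso (CommRingCat.of S)).inv (algebraMap k S c) :=
    (congr($(Scheme.ΓSpecIso_inv_naturality (CommRingCat.ofHom (algebraMap k S))) c)).symm
  show IsLocalRing.residue _ (e (algebraMap k (Localization.AtPrime p.asIdeal) c)) =
    IsLocalRing.residue _ ((X.presheaf.germ ⊤ (p : X) trivial)
      ((X ↘ (Spec (CommRingCat.of k))).appTop ((Scheme.ΓSpecIso (CommRingCat.of k)).inv c)))
  rw [h1, IsScalarTower.algebraMap_apply k S (Localization.AtPrime p.asIdeal), e.commutes]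
  rfl

end Groth.Agent.CMChart
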