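import Groth.Agent.CMChart.Locus
import Groth.Agent.DimFormula.Open
import Groth.Agent.InjFibre.SliceScheme
import Groth.Agent.CMChart.OverField
import Groth.Agent.TopDim.Basic
import Mathlib.AlgebraicGeometry.ZariskisMainTheorem
import Groth.Agent.FibCrit.Scheme
import Mathlib.RingTheory.KrullDimension.Regular

/-!
# Slices of Cohen–Macaulay morphisms with zero-dimensional fibre at the point
-/

set_option autoImplicit false
set_option linter.style.haveILetI false
universe u

open CategoryTheory AlgebraicGeometry Topology TopologicalSpace Limits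
open Groth.Agent Groth.Agent.Unibranch Groth.Agent.EquidimPt Groth.Agent.DimFormula

namespace Groth.Agent.CMChart

/-- A Cohen–Macaulay local ring has a regular sequence with zero-dimensional quotient. -/
theorem exists_regular_zeroDim (R : Type u) [CommRing R] [LocCoh.IsCohenMacaulayLocalRing R] :
    ∃ rs : List R, RingTheory.Sequence.IsRegular R rs ∧ ringKrullDim (R ⧸ Ideal.ofList rs) = 0 := by
  obtain ⟨d, hd⟩ := SerreReg.exists_dim_nat R
  have hdep : (d : ℕ∞) ≤ LocCoh.depth R R := by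
    have h := LocCoh.IsCohenMacaulayLocalRing.supportDim_eq_depth (R := R)
    rw [Module.supportDim_self_eq_ringKrullDim, hd, ← WithBot.coe_natCast, WithBot.coe_inj] at h
    exact h.le
  obtain ⟨rs, hlen, hweak, hmem⟩ : ∃ rs : List R, d ≤ rs.length ∧ RingTheory.Sequence.IsWeaklyRegular R rs ∧
      ∀ r ∈ rs, r ∈ IsLocalRing.maximalIdeal R := by
    rcases d with _ | d
    · exact ⟨[], le_rfl, RingTheory.Sequence.IsWeaklyRegular.nil R R, by simp⟩
    rw [LocCoh.depth, LocCoh.idealDepth,
      if_neg (by rw [smul_eq_mul, Ideal.mul_top]; exact (IsLocalRing.maximalIdeal.isMaximal R).ne_top)] at hdep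
    have h1 : (d : ℕ∞) < ((d + 1 : ℕ) : ℕ∞) := by exact_mod_cast Nat.lt_succ_self d
    obtain ⟨rs, hrs⟩ := lt_iSup_iff.mp (h1.trans_le hdep)
    obtain ⟨⟨hw, hm⟩, hlt⟩ := lt_iSup_iff.mp hrs
    exact ⟨rs, by exact_mod_cast hlt, hw, hm⟩
  have hle : Ideal.ofList rs ≤ IsLocalRing.maximalIdeal R := Ideal.span_le.mpr hmem
  have hreg : RingTheory.Sequence.IsRegular R rs := ⟨hweak, fun h => by
    rw [smul_eq_mul, Ideal.mul_top] at h
    exact (IsLocalRing.maximalIdeal.isMaximal R).ne_top (top_le_iff.mp (h.le.trans hle))⟩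
  refine ⟨rs, hreg, ?_⟩
  haveI : Nontrivial (R ⧸ Ideal.ofList rs) := Ideal.Quotient.nontrivial_iff.mpr fun h =>
    (IsLocalRing.maximalIdeal.isMaximal R).ne_top (top_le_iff.mp (h.ge.trans hle))
  have h := ringKrullDim_add_length_eq_ringKrullDim_of_isRegular rs hreg
  have h0 : 0 ≤ ringKrullDim (R ⧸ Ideal.ofList rs) := ringKrullDim_nonneg_of_nontrivial
  rw [hd] at h
  revert h h0
  cases ringKrullDim (R ⧸ Ideal.ofList rs) with
  | bot => simp
  | coe a =>
    cases a with
    | top =>
      intro h _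
      rw [← WithBot.coe_natCast, ← WithBot.coe_natCast, ← WithBot.coe_add, WithBot.coe_inj, top_add] at h
      exact absurd h (ENat.top_ne_coe d)
    | coe a =>
      intro h _
      have : a + rs.length = d := by exact_mod_cast h
      exact_mod_cast (show a = 0 by omega)

variable {X S : Scheme.{u}}

/-- Cohen–Macaulayness of a morphism is insensitive to open immersions into the source. -/
theorem isCMAt_openImmersion_iff {W : Scheme.{u}} (j : W ⟶ X) [IsOpenImmersion j] (f : X ⟶ S) (w : W) :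
    MoreMor.IsCMAt (j ≫ f) w ↔ MoreMor.IsCMAt f (j w) := by
  let k := MoreMor.fiberMap j f ((j ≫ f) w)
  haveI : IsOpenImmersion k := by
    show IsOpenImmersion (MoreMor.fiberMap j f ((j ≫ f) w))
    rw [← (FibCrit.isPullback_fiberMap j f ((j ≫ f) w)).isoPullback_hom_snd]
    infer_instance
  let z := (j ≫ f).asFiber w
  have hkz : f.fiberι ((j ≫ f) w) (k z) = j w := by
    refine (Scheme.Hom.comp_apply _ _ _).symm.trans ((congr($(FibCrit.fiberMap_fiberι j f ((j ≫ f) w)) z)).trans
      ((Scheme.Hom.comp_apply _ _ _).trans ?_))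
    exact congrArg j ((j ≫ f).fiberι_asFiber w)
  have key : ∀ (y : S) (_ : y = f (j w)) (v : f.fiber y), f.fiberι y v = j w →
      (LocCoh.IsCohenMacaulayLocalRing ((f.fiber y).presheaf.stalk v) ↔
        LocCoh.IsCohenMacaulayLocalRing ((f.fiber (f (j w))).presheaf.stalk (f.asFiber (j w)))) := by
    rintro y rfl v hv
    rw [show v = f.asFiber (j w) from
      (f.fiberι _).isEmbedding.injective (hv.trans (f.fiberι_asFiber _).symm)]
  let e := (asIso (k.stalkMap z)).commRingCatIsoToRingEquiv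
  refine and_congr ?_ ((key _ (Scheme.Hom.comp_apply _ _ _) (k z) hkz).symm.trans ⟨?_, ?_⟩).symm
  · erw [Scheme.Hom.stalkMap_comp, CommRingCat.hom_comp]
    exact @RingHom.RespectsIso.cancel_right_isIso _ RingHom.Flat.respectsIso _ _ _ (f.stalkMap (j w))
      (j.stalkMap w) inferInstance
  · exact isCohenMacaulayLocalRing_of_ringEquiv e
  · exact isCohenMacaulayLocalRing_of_ringEquiv e.symm

/-- A point closed in its fibre with zero-dimensional local ring of the fibre is quasi-finite. -/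
theorem quasiFiniteAt_of_dim_zero {Z : Scheme.{u}} (h : Z ⟶ S) [LocallyOfFiniteType h] (y : Z)
    (hdim : ringKrullDim ((h.fiber (h y)).presheaf.stalk (h.asFiber y)) = 0)
    (hcl : IsClosed ({h.asFiber y} : Set (h.fiber (h y)))) : h.QuasiFiniteAt y := by
  refine Scheme.Hom.quasiFiniteAt_iff_isOpen_singleton_asFiber.mpr ?_
  let p : h.fiber (h y) ⟶ Spec (CommRingCat.of (S.residueField (h y))) := h.fiberToSpecResidueField (h y)
  haveI : LocallyOfFiniteType p := MorphismProperty.pullback_snd (P := @LocallyOfFiniteType) _ _ inferInstance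
  haveI : IsLocallyNoetherian (h.fiber (h y)) := LocallyOfFiniteType.isLocallyNoetherian p
  obtain ⟨b, δ, hb, hD, -, hδ⟩ := localDim_field_eq p (h.asFiber y)
  obtain rfl : b = 0 := by exact_mod_cast hb.symm.trans hdim
  obtain ⟨U, hU, hxU, -⟩ := exists_isAffineOpen_mem_and_subset (U := (⊤ : (h.fiber (h y)).Opens))
    (x := h.asFiber y) trivial
  haveI := IsLocallyNoetherian.component_noetherian (X := h.fiber (h y)) ⟨U, hU⟩
  haveI : TopologicalSpace.NoetherianSpace (U : Set (h.fiber (h y))) := noetherianSpace_of_isAffineOpen U hU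
  exact TopDim.isOpen_singleton_of_localDim_eq_zero U hxU (by rw [hD, hδ hcl]; rfl)

/-- **Slicing a Cohen–Macaulay morphism.** -/
theorem exists_cm_slice (f : X ⟶ S) [LocallyOfFinitePresentation f] (x : X) (hx : MoreMor.IsCMAt f x) :
    ∃ (Z : Scheme.{u}) (V : X.Opens) (i : Z ⟶ (V : Scheme.{u})) (y : Z),
      Mor2.IsRegularClosedImmersion i ∧ V.ι (i y) = x ∧ Flat (i ≫ V.ι ≫ f) ∧
      LocallyOfFinitePresentation (i ≫ V.ι ≫ f) ∧ (∀ z, MoreMor.IsCMAt (i ≫ V.ι ≫ f) z) ∧
      ringKrullDim (((i ≫ V.ι ≫ f).fiber ((i ≫ V.ι ≫ f) y)).presheaf.stalk ((i ≫ V.ι ≫ f).asFiber y)) = 0 ∧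
      (IsClosed ({f.asFiber x} : Set (f.fiber (f x))) → LocallyQuasiFinite (i ≫ V.ι ≫ f) ∧
        ∀ z, f (V.ι (i z)) = f x → V.ι (i z) = x) := by
  let O := X.presheaf.stalk x
  let I : Ideal O := (IsLocalRing.maximalIdeal (S.presheaf.stalk (f x))).map (f.stalkMap x).hom
  haveI : LocCoh.IsCohenMacaulayLocalRing (O ⧸ I) := by
    have key : ∀ (x' : X), f.fiberι (f x) (f.asFiber x) = x' →
        LocCoh.IsCohenMacaulayLocalRing (X.presheaf.stalk x' ⧸
          (IsLocalRing.maximalIdeal (S.presheaf.stalk (f x'))).map (f.stalkMap x').hom) := by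
      rintro x' rfl
      obtain ⟨hs, hk⟩ := FibCrit.fiberι_stalkMap f (f x) (f.asFiber x)
      exact isCohenMacaulayLocalRing_of_ringEquiv
        (((Ideal.quotEquivOfEq hk.symm).trans (RingHom.quotientKerEquivOfSurjective hs)).symm) hx.2
    exact key x (f.fiberι_asFiber x)
  obtain ⟨rs, hreg, hdim⟩ := exists_regular_zeroDim (O ⧸ I)
  obtain ⟨hs, rfl⟩ : ∃ hs : List O, hs.map (Ideal.Quotient.mk I) = rs :=
    ⟨rs.map (Function.surjInv Ideal.Quotient.mk_surjective), by
      rw [List.map_map]; exact List.map_id'' (Function.surjInv_eq _) rs⟩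
  obtain ⟨V₀, hV₀, U, hU, hxU, e, l, hl, hlr, hlf⟩ := InjFibre.exists_slice f x hx.1 hs hreg.toIsWeaklyRegular
  let A := Γ(X, U)
  have hlQ : Ideal.ofList l ≤ (hU.primeIdealOf ⟨x, hxU⟩).asIdeal := by
    refine Ideal.span_le.2 fun a ha => ?_
    by_contra hq
    have hu := (WeakAssLib.isUnit_germ hU hxU hq).map (Ideal.Quotient.mk I)
    apply hreg.top_ne_smul
    rw [smul_eq_mul, Ideal.mul_top]
    refine (Ideal.eq_top_of_isUnit_mem _ (Ideal.subset_span ?_) hu).symm
    exact List.mem_map_of_mem (by rw [← hl]; exact List.mem_map_of_mem ha)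
  obtain ⟨hfl, hlfp⟩ := InjFibre.flat_lfp_slice f hV₀ hU e (Ideal.ofList l) (Submodule.fg_span l.finite_toSet)
    (by have := hlf l.length le_rfl; rwa [List.take_length] at this)
  let q := CommRingCat.ofHom (Ideal.Quotient.mk (Ideal.ofList l))
  haveI : IsClosedImmersion (Spec.map q) := IsClosedImmersion.spec_of_surjective _ Ideal.Quotient.mk_surjective
  let h := Spec.map q ≫ hU.fromSpec ≫ f
  haveI : Flat h := hfl
  haveI : LocallyOfFinitePresentation h := hlfp
  obtain ⟨y, hy⟩ : ∃ y, Spec.map q y = hU.primeIdealOf ⟨x, hxU⟩ := by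
    have : hU.primeIdealOf ⟨x, hxU⟩ ∈ Set.range (PrimeSpectrum.comap q.hom) := by
      erw [range_comap_of_surjective _ _ Ideal.Quotient.mk_surjective]
      exact fun a ha => hlQ (Ideal.Quotient.eq_zero_iff_mem.1 ha)
    exact this
  let ι₀ := Spec.map q ≫ hU.fromSpec
  haveI : IsPreimmersion ι₀ := inferInstance
  have hιy : ι₀ y = x := (Scheme.Hom.comp_apply _ _ _).trans ((congrArg _ hy).trans (hU.fromSpec_primeIdealOf _))
  have hh : ∀ z, h z = f (ι₀ z) := fun z => by
    show (Spec.map q ≫ hU.fromSpec ≫ f) z = _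
    rw [← Category.assoc]; exact Scheme.Hom.comp_apply _ _ _
  have hdim0 : ringKrullDim ((h.fiber (h y)).presheaf.stalk (h.asFiber y)) = 0 := by
    haveI : Nonempty (PrimeSpectrum ((h.fiber (h y)).presheaf.stalk (h.asFiber y))) := inferInstance
    refine le_antisymm ((ringKrullDim_fiber_stalk_le_iff h y (k := 0)).mpr fun n c hc hcy hcl => ?_)
      ringKrullDim_nonneg_of_nontrivial
    by_contra hn
    obtain ⟨m, rfl⟩ : ∃ m, n = m + 1 := ⟨n - 1, by omega⟩
    refine (hc 0).2 ?_
    suffices H : ∀ i, c i = y from (H _).trans (H _).symm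
    intro i
    have hsp : ι₀ (c i) ⤳ x := hιy ▸ hcl ▸ (specializes_last hc i).map ι₀.continuous
    obtain ⟨Q, hQ⟩ := exists_fromSpecStalk_eq hsp
    apply ι₀.isEmbedding.injective
    rw [hιy, ← hQ]
    suffices hmax : Q = IsLocalRing.closedPoint O by rw [hmax]; exact Scheme.fromSpecStalk_closedPoint
    have hI : I ≤ Q.asIdeal := by
      rw [Ideal.map_le_iff_le_comap]
      have h1 := fromSpecStalk_stalkMap f x Q
      have h1 := h1.trans ((congrArg f hQ).trans ((hh (c i)).symm.trans ((hcy i).trans ((hh y).trans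
        ((congrArg f hιy).trans (Scheme.fromSpecStalk_closedPoint (X := S) (x := f x)).symm)))))
      exact (congrArg PrimeSpectrum.asIdeal ((S.fromSpecStalk (f x)).isEmbedding.injective h1)).ge
    have hl' : Ideal.ofList l ≤ Q.asIdeal.comap (X.presheaf.germ U x hxU).hom := by
      have h2 : hU.fromSpec (Spec.map (X.presheaf.germ U x hxU) Q) = hU.fromSpec (Spec.map q (c i)) := by
        refine (Scheme.Hom.comp_apply _ _ _).symm.trans (Eq.trans ?_ (Scheme.Hom.comp_apply _ _ _))
        rw [← hQ]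
        exact congr($(hU.fromSpecStalk_eq_fromSpecStalk hxU) Q)
      have h3 := congrArg PrimeSpectrum.asIdeal (hU.fromSpec.isOpenEmbedding.injective h2)
      intro a ha
      refine h3.ge ?_
      show Ideal.Quotient.mk (Ideal.ofList l) a ∈ (c i).asIdeal
      rw [Ideal.Quotient.eq_zero_iff_mem.2 ha]; exact zero_mem _
    have hhs : Ideal.ofList hs ≤ Q.asIdeal := by
      rw [← hl, ← Ideal.map_ofList]
      exact Ideal.map_le_iff_le_comap.2 hl'
    haveI : Q.asIdeal.IsPrime := Q.2
    haveI : (Q.asIdeal.map (Ideal.Quotient.mk I)).IsPrime :=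
      Ideal.map_isPrime_of_surjective Ideal.Quotient.mk_surjective (by rw [Ideal.mk_ker]; exact hI)
    have hle : Ideal.ofList (hs.map (Ideal.Quotient.mk I)) ≤ Q.asIdeal.map (Ideal.Quotient.mk I) := by
      rw [← Ideal.map_ofList]; exact Ideal.map_mono hhs
    haveI : ((Q.asIdeal.map (Ideal.Quotient.mk I)).map
        (Ideal.Quotient.mk (Ideal.ofList (hs.map (Ideal.Quotient.mk I))))).IsPrime :=
      Ideal.map_isPrime_of_surjective Ideal.Quotient.mk_surjective (by rw [Ideal.mk_ker]; exact hle)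
    haveI : Ring.KrullDimLE 0 ((O ⧸ I) ⧸ Ideal.ofList (hs.map (Ideal.Quotient.mk I))) :=
      Ring.krullDimLE_iff.mpr (by rw [hdim]; rfl)
    have hM := Ideal.IsPrime.isMaximal' (I := (Q.asIdeal.map (Ideal.Quotient.mk I)).map
        (Ideal.Quotient.mk (Ideal.ofList (hs.map (Ideal.Quotient.mk I))))) inferInstance
    have hM1 := Ideal.comap_isMaximal_of_surjective _ Ideal.Quotient.mk_surjective (K := (Q.asIdeal.map (Ideal.Quotient.mk I)).map
        (Ideal.Quotient.mk (Ideal.ofList (hs.map (Ideal.Quotient.mk I)))))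
    rw [Ideal.comap_map_mk hle] at hM1
    haveI := hM1
    have hM2 := Ideal.comap_isMaximal_of_surjective _ Ideal.Quotient.mk_surjective (K := Q.asIdeal.map (Ideal.Quotient.mk I))
    rw [Ideal.comap_map_mk hI] at hM2
    exact PrimeSpectrum.ext (IsLocalRing.eq_maximalIdeal hM2)
  have hycm : MoreMor.IsCMAt h y := by
    haveI : LocallyOfFiniteType (h.fiberToSpecResidueField (h y)) :=
      MorphismProperty.pullback_snd (P := @LocallyOfFiniteType) _ _ inferInstance
    haveI : IsLocallyNoetherian (h.fiber (h y)) :=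
      LocallyOfFiniteType.isLocallyNoetherian (h.fiberToSpecResidueField (h y))
    exact ⟨Flat.stalkMap h y, isCohenMacaulayLocalRing_of_dim_zero hdim0⟩
  -- shrink the slice
  obtain ⟨G, hyG, hGp⟩ : ∃ G : (Spec (CommRingCat.of (A ⧸ Ideal.ofList l))).Opens, y ∈ G ∧
      (IsClosed ({f.asFiber x} : Set (f.fiber (f x))) →
        ∀ z ∈ G, h.QuasiFiniteAt z ∧ (h z = h y → z = y)) := by
    by_cases hcl : IsClosed ({f.asFiber x} : Set (f.fiber (f x)))
    · have hcl' : IsClosed ({h.asFiber y} : Set (h.fiber (h y))) := by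
        let φ : h.fiber (h y) → X := ι₀ ∘ h.fiberι (h y)
        have hφ : Continuous φ := ι₀.continuous.comp (h.fiberι (h y)).continuous
        obtain ⟨C, hC, hCe⟩ := (f.fiberι (f x)).isEmbedding.isInducing.isClosed_iff.mp hcl
        have : ({h.asFiber y} : Set (h.fiber (h y))) = φ ⁻¹' C := by
          ext w
          have hfw : f (φ w) = f x := by
            have : h.fiberι (h y) w ∈ Set.range (h.fiberι (h y)) := ⟨w, rfl⟩
            rw [Scheme.Hom.range_fiberι] at this
            exact (hh _).symm.trans (this.trans ((hh y).trans (congrArg f hιy)))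
          obtain ⟨v, hv⟩ : φ w ∈ Set.range (f.fiberι (f x)) := by
            rw [Scheme.Hom.range_fiberι]; exact hfw
          rw [Set.mem_singleton_iff, Set.mem_preimage, ← hv]
          show _ ↔ v ∈ f.fiberι (f x) ⁻¹' C
          rw [hCe, Set.mem_singleton_iff]
          refine ⟨fun e => ?_, fun e => ?_⟩
          · apply (f.fiberι (f x)).isEmbedding.injective
            rw [hv, f.fiberι_asFiber, e]
            exact (congrArg ι₀ (h.fiberι_asFiber y)).trans hιy
          · apply (h.fiberι (h y)).isEmbedding.injective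
            apply ι₀.isEmbedding.injective
            rw [h.fiberι_asFiber, hιy]
            exact hv.symm.trans ((congrArg _ e).trans (f.fiberι_asFiber x))
        rw [this]; exact hC.preimage hφ
      have hqf := quasiFiniteAt_of_dim_zero h y hdim0 hcl'
      obtain ⟨O', hO', hOe⟩ := (h.fiberι (h y)).isEmbedding.isInducing.isOpen_iff.mp
        (Scheme.Hom.quasiFiniteAt_iff_isOpen_singleton_asFiber.mp hqf)
      refine ⟨h.quasiFiniteLocus ⊓ ⟨O', hO'⟩, ⟨hqf, ?_⟩, fun _ z hz => ⟨hz.1, fun e => ?_⟩⟩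
      · have := hOe.ge (Set.mem_singleton (h.asFiber y))
        rw [Set.mem_preimage, h.fiberι_asFiber] at this
        exact this
      · obtain ⟨v, rfl⟩ : z ∈ Set.range (h.fiberι (h y)) := by rw [Scheme.Hom.range_fiberι]; exact e
        rw [show v = h.asFiber y from hOe.le hz.2]
        exact h.fiberι_asFiber y
    · exact ⟨⊤, trivial, fun hc => absurd hc hcl⟩
  let K : Set (PrimeSpectrum A) := Spec.map q '' ({z | MoreMor.IsCMAt h z} ∩ (G : Set _))ᶜ
  have hK : IsClosed K := (Spec.map q).isClosedEmbedding.isClosedMap _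
    ((isOpen_isCMAt h).inter G.2).isClosed_compl
  have hyK : (hU.primeIdealOf ⟨x, hxU⟩ : PrimeSpectrum A) ∈ Kᶜ := by
    rintro ⟨z, hz, hze⟩
    exact hz ((Spec.map q).isEmbedding.injective (hze.trans hy.symm) ▸ ⟨hycm, hyG⟩)
  obtain ⟨_, ⟨g, rfl⟩, hxg, hgK⟩ :=
    PrimeSpectrum.isTopologicalBasis_basic_opens.exists_subset_of_mem_open hyK hK.isOpen_compl
  let B := Localization.Away g
  let J : Ideal B := Ideal.ofList (l.map (algebraMap A B))
  have hJ : J = (Ideal.ofList l).map (algebraMap A B) := (Ideal.map_ofList _ _).symm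
  letI : Algebra (A ⧸ Ideal.ofList l) (B ⧸ J) :=
    (Ideal.quotientMap J (algebraMap A B) (Ideal.map_le_iff_le_comap.1 hJ.ge)).toAlgebra
  haveI : IsScalarTower A (A ⧸ Ideal.ofList l) (B ⧸ J) := IsScalarTower.of_algebraMap_eq fun a => rfl
  haveI := FibCrit.isPushout_quot (A := A) (B := B) (Ideal.ofList l) (J := J) hJ
  have hP := (isPullback_SpecMap_of_isPushout _ _ _ _
    (CommRingCat.isPushout_of_isPushout A (A ⧸ Ideal.ofList l) B (B ⧸ J))).flip
  haveI hjB : IsOpenImmersion (Spec.map (CommRingCat.ofHom (algebraMap A B))) :=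
    IsOpenImmersion.of_isLocalization g
  let k := Spec.map (CommRingCat.ofHom (algebraMap (A ⧸ Ideal.ofList l) (B ⧸ J)))
  let q' := CommRingCat.ofHom (Ideal.Quotient.mk J)
  have hsq : IsPullback (Spec.map q') k (Spec.map (CommRingCat.ofHom (algebraMap A B))) (Spec.map q) := hP
  haveI : IsOpenImmersion k := MorphismProperty.of_isPullback hsq hjB
  haveI : IsClosedImmersion (Spec.map q') := IsClosedImmersion.spec_of_surjective _ Ideal.Quotient.mk_surjective
  let j : Spec (CommRingCat.of B) ⟶ X := Spec.map (CommRingCat.ofHom (algebraMap A B)) ≫ hU.fromSpec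
  have hreg' : RingTheory.Sequence.IsWeaklyRegular B (l.map (algebraMap A B)) := by
    haveI : Module.Flat A B := IsLocalization.flat B (Submonoid.powers g)
    exact hlr.of_flat
  let i : Spec (CommRingCat.of (B ⧸ J)) ⟶ (j.opensRange : Scheme.{u}) := Spec.map q' ≫ j.isoOpensRange.hom
  haveI : IsClosedImmersion i := inferInstance
  have hcomp : i ≫ j.opensRange.ι ≫ f = k ≫ h := by
    show (Spec.map q' ≫ j.isoOpensRange.hom) ≫ j.opensRange.ι ≫ f = k ≫ Spec.map q ≫ hU.fromSpec ≫ f
    rw [Category.assoc, Scheme.Hom.isoOpensRange_hom_ι_assoc, reassoc_of% hsq.w.symm]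
    simp [j]
  obtain ⟨y', hy'⟩ : ∃ y', k y' = y := by
    have hgy : Spec.map q y ∈ Set.range (Spec.map (CommRingCat.ofHom (algebraMap A B))) := by
      rw [hy]
      exact (PrimeSpectrum.localization_away_comap_range B g).ge hxg
    obtain ⟨b, hb⟩ := hgy
    obtain ⟨y', -, hy'⟩ := Scheme.exists_preimage_of_isPullback hsq b y hb
    exact ⟨y', hy'⟩
  have hkG : ∀ z, MoreMor.IsCMAt h (k z) ∧ k z ∈ G := fun z => by
    by_contra hz
    refine hgK ?_ ⟨k z, hz, rfl⟩
    rw [← Scheme.Hom.comp_apply, ← hsq.w, Scheme.Hom.comp_apply]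
    exact (PrimeSpectrum.localization_away_comap_range B g).le ⟨_, rfl⟩
  have hcm : ∀ z, MoreMor.IsCMAt (k ≫ h) z := fun z =>
    (isCMAt_openImmersion_iff k h z).mpr (hkG z).1
  have hik : ∀ z, j.opensRange.ι (i z) = ι₀ (k z) := fun z => by
    rw [← Scheme.Hom.comp_apply, Category.assoc, Scheme.Hom.isoOpensRange_hom_ι, ← Scheme.Hom.comp_apply]
    congr 2
  refine ⟨_, j.opensRange, i, y', ?_, ?_, ?_, ?_, ?_, ?_, ?_⟩
  · exact InjFibre.isRegularClosedImmersion_of_local _ fun z =>
      ⟨CommRingCat.of B, l.map (algebraMap A B), j.isoOpensRange.hom, 𝟙 _, inferInstance,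
        (Scheme.homeoOfIso j.isoOpensRange).surjective _, hreg', IsPullback.of_vert_isIso ⟨by simp [i]; rfl⟩⟩
  · rw [hik, hy', hιy]
  · rw [hcomp]; infer_instance
  · rw [hcomp]; infer_instance
  · rw [hcomp]; exact hcm
  · rw [hcomp]
    subst hy'
    haveI : IsOpenImmersion (MoreMor.fiberMap k h ((k ≫ h) y')) := by
      rw [← (FibCrit.isPullback_fiberMap k h ((k ≫ h) y')).isoPullback_hom_snd]
      infer_instance
    refine le_antisymm ((ringKrullDim_fiber_stalk_le_iff (k ≫ h) y' (k := 0)).mpr fun n c hc hcy hcl => ?_)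
      (ringKrullDim_nonneg_of_nontrivial)
    exact (ringKrullDim_fiber_stalk_le_iff h (k y') (k := 0)).mp hdim0.le n (fun i => k (c i))
      (fun i => ⟨(hc i).1.map k.continuous, fun e => (hc i).2 (k.isOpenEmbedding.injective e)⟩)
      (fun i => (Scheme.Hom.comp_apply _ _ _).symm.trans ((hcy i).trans (Scheme.Hom.comp_apply _ _ _)))
      (congrArg k hcl)
  · intro hcl
    refine ⟨?_, fun z hz => ?_⟩
    · rw [hcomp, ← Scheme.Hom.quasiFiniteLocus_eq_top_iff]
      refine top_le_iff.mp fun z _ => ?_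
      rw [Scheme.Hom.mem_quasiFiniteLocus, Scheme.Hom.quasiFiniteAt_comp_iff_of_isOpenImmersion]
      exact (hGp hcl _ (hkG z).2).1
    · rw [hik] at hz ⊢
      rw [(hGp hcl _ (hkG z).2).2 ((hh _).trans (hz.trans ((congrArg f hιy).symm.trans (hh y).symm))), hιy]

end Groth.Agent.CMChart
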