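import Groth.Agent.SyntLib.Open
import Groth.Agent.LocalDimBC.Scheme
import Groth.Agent.LocalDimBC.Smooth
import Groth.Agent.CMChart.Locus
import Groth.Agent.CMChart.OverField
import Groth.Agent.CMFlat.BaseChange
import Mathlib.RingTheory.Idempotents

/-!
# Decomposition of flat finitely presented algebras with CM fibres by fibre dimension
-/

set_option autoImplicit false
set_option linter.style.haveILetI false
set_option backward.isDefEq.respectTransparency false
universe u

open CategoryTheory AlgebraicGeometry Topology TopologicalSpace Limits TensorProduct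

namespace Groth.Agent.CMChart

/-- A localization of a Cohen–Macaulay ring is Cohen–Macaulay. -/
theorem isCohenMacaulayRing_of_isLocalization {A B : Type u} [CommRing A] [CommRing B] [Algebra A B]
    (M : Submonoid A) [IsLocalization M B] [LocCoh.IsCohenMacaulayRing A] :
    LocCoh.IsCohenMacaulayRing B :=
  { noetherian := (IsLocalization.isNoetherianRing M B inferInstance).noetherian
    isCohenMacaulayLocalRing_localization := fun P _ => by
      haveI : IsLocalization.AtPrime (Localization.AtPrime P) (P.comap (algebraMap A B)) :=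
        IsLocalization.isLocalization_isLocalization_atPrime_isLocalization M (Localization.AtPrime P) P
      exact isCohenMacaulayLocalRing_of_ringEquiv
        (IsLocalization.algEquiv (P.comap (algebraMap A B)).primeCompl
          (Localization.AtPrime (P.comap (algebraMap A B))) (Localization.AtPrime P)).toRingEquiv
        (LocCoh.IsCohenMacaulayRing.isCohenMacaulayLocalRing_localization _) }

/-- The piece of a Cohen–Macaulay fibre cut out by an idempotent is Cohen–Macaulay. -/
theorem isCohenMacaulayRing_tensor_quotient {R k S : Type u} [CommRing R] [CommRing k] [Algebra R k]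
    [CommRing S] [Algebra R S] {e : S} (he : IsIdempotentElem e) [LocCoh.IsCohenMacaulayRing (k ⊗[R] S)] :
    LocCoh.IsCohenMacaulayRing (k ⊗[R] (S ⧸ Ideal.span ({1 - e} : Set S))) := by
  let g : S →ₐ[R] S ⧸ Ideal.span ({1 - e} : Set S) := Ideal.Quotient.mkₐ R _
  have hg : Function.Surjective g := Ideal.Quotient.mkₐ_surjective R _
  let φ := Algebra.TensorProduct.map (AlgHom.id R k) g
  letI : Algebra (k ⊗[R] S) (k ⊗[R] (S ⧸ Ideal.span ({1 - e} : Set S))) := φ.toRingHom.toAlgebra
  have hsurj : Function.Surjective φ := LinearMap.lTensor_surjective k (g := g.toLinearMap) hg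
  haveI : IsLocalization.Away ((1 : k) ⊗ₜ[R] e)
      (k ⊗[R] (S ⧸ Ideal.span ({1 - e} : Set S))) := by
    refine IsLocalization.away_of_isIdempotentElem ?_ ?_ hsurj
    · show _ * _ = _
      rw [Algebra.TensorProduct.tmul_mul_tmul, one_mul, he]
    · show RingHom.ker φ.toRingHom = _
      refine (Algebra.TensorProduct.lTensor_ker g hg).trans ?_
      have hk : RingHom.ker g = Ideal.span ({1 - e} : Set S) := Ideal.mk_ker
      rw [hk, Ideal.map_span, Set.image_singleton]
      congr 2
      rw [map_sub, map_one]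
      rfl
  exact isCohenMacaulayRing_of_isLocalization (Submonoid.powers ((1 : k) ⊗ₜ[R] e))

variable {R S : Type u} [CommRing R] [CommRing S] [Algebra R S]

theorem isCMAt_Spec [Algebra.FiniteType R S] [Module.Flat R S]
    (hCM : ∀ p : PrimeSpectrum R, LocCoh.IsCohenMacaulayRing (p.asIdeal.Fiber S)) (x : PrimeSpectrum S) :
    MoreMor.IsCMAt (Spec.map (CommRingCat.ofHom (algebraMap R S))) x := by
  let p := PrimeSpectrum.comap (algebraMap R S) x
  let f := Spec.map (CommRingCat.ofHom (algebraMap R S))
  haveI : LocallyOfFiniteType f :=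
    (HasRingHomProperty.Spec_iff (P := @LocallyOfFiniteType)).mpr (RingHom.finiteType_algebraMap.mpr inferInstance)
  haveI : Flat f :=
    (HasRingHomProperty.Spec_iff (P := @Flat)).mpr (RingHom.flat_algebraMap_iff.mpr inferInstance)
  have sq := (isPullback_SpecMap_of_isPushout _ _ _ _
    (CommRingCat.isPushout_tensorProduct R p.asIdeal.ResidueField S)).flip
  let z : Spec (CommRingCat.of (p.asIdeal.ResidueField ⊗[R] S)) :=
    PrimeSpectrum.preimageOrderIsoFiber R S p ⟨x, rfl⟩
  have hz : Spec.map (CommRingCat.ofHom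
      (Algebra.TensorProduct.includeRight : S →ₐ[R] p.asIdeal.ResidueField ⊗[R] S).toRingHom) z = x :=
    congrArg Subtype.val ((PrimeSpectrum.preimageOrderIsoFiber R S p).symm_apply_apply ⟨x, rfl⟩)
  haveI : IsLocallyNoetherian (f.fiber (Spec.map (CommRingCat.ofHom (algebraMap R p.asIdeal.ResidueField))
      (Spec.map (CommRingCat.ofHom (algebraMap p.asIdeal.ResidueField (p.asIdeal.ResidueField ⊗[R] S))) z))) := by
    haveI : LocallyOfFiniteType (f.fiberToSpecResidueField
        (Spec.map (CommRingCat.ofHom (algebraMap R p.asIdeal.ResidueField))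
          (Spec.map (CommRingCat.ofHom (algebraMap p.asIdeal.ResidueField (p.asIdeal.ResidueField ⊗[R] S))) z))) :=
      MorphismProperty.pullback_snd (P := @LocallyOfFiniteType) _ _ inferInstance
    exact LocallyOfFiniteType.isLocallyNoetherian (f.fiberToSpecResidueField _)
  rw [← hz]
  refine CMFlat.isCMAt_of_baseChange sq z (Or.inr inferInstance) (Flat.stalkMap f _) ?_
  refine (isCMAt_iff_stalk _ _).mpr ?_
  haveI := hCM p
  exact isCohenMacaulayLocalRing_of_ringEquiv
    (IsLocalization.algEquiv (z : PrimeSpectrum (p.asIdeal.ResidueField ⊗[R] S)).asIdeal.primeCompl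
      (Localization.AtPrime (z : PrimeSpectrum (p.asIdeal.ResidueField ⊗[R] S)).asIdeal)
      ((Spec.structureSheaf (p.asIdeal.ResidueField ⊗[R] S)).presheaf.stalk z)).toRingEquiv
    (LocCoh.IsCohenMacaulayRing.isCohenMacaulayLocalRing_localization _)

/-- The dimension of the irreducible component of a minimal prime is the local dimension. -/
theorem ringKrullDim_quotient_minimalPrime {k B : Type u} [Field k] [CommRing B] [Algebra k B]
    [Algebra.FiniteType k B] (P : PrimeSpectrum B) (hP : P.asIdeal ∈ minimalPrimes B) :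
    ringKrullDim (B ⧸ P.asIdeal) = FlatMor.localDim (PrimeSpectrum B) P := by
  let q : Spec (CommRingCat.of B) ⟶ Spec (CommRingCat.of k) := Spec.map (CommRingCat.ofHom (algebraMap k B))
  haveI : LocallyOfFiniteType q :=
    (HasRingHomProperty.Spec_iff (P := @LocallyOfFiniteType)).mpr (RingHom.finiteType_algebraMap.mpr inferInstance)
  have hmax : Unibranch.IsMaxPt (X := Spec (CommRingCat.of B)) P := by
    intro w hw
    have h1 : (w : PrimeSpectrum B).asIdeal ≤ P.asIdeal := (PrimeSpectrum.le_iff_specializes _ _).mpr hw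
    exact PrimeSpectrum.ext (le_antisymm h1 (hP.2 ⟨(w : PrimeSpectrum B).isPrime, bot_le⟩ h1))
  refine Eq.trans ?_ (LocalDimBC.topologicalKrullDim_closure_eq q P hmax)
  rw [← PrimeSpectrum.topologicalKrullDim_eq_ringKrullDim]
  have hemb := (PrimeSpectrum.isClosedEmbedding_comap_of_surjective _ (Ideal.Quotient.mk P.asIdeal)
    Ideal.Quotient.mk_surjective).isEmbedding
  have hr : Set.range (PrimeSpectrum.comap (Ideal.Quotient.mk P.asIdeal)) = closure ({P} : Set (PrimeSpectrum B)) := by
    rw [_root_.range_comap_of_surjective _ _ Ideal.Quotient.mk_surjective, Ideal.mk_ker,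
      PrimeSpectrum.closure_singleton]
  exact IsHomeomorph.topologicalKrullDim_eq _
    (hemb.toHomeomorph.trans (Homeomorph.setCongr hr)).isHomeomorph

theorem exists_decomposition [Module.Flat R S] [Algebra.FinitePresentation R S]
    (hCM : ∀ p : PrimeSpectrum R, LocCoh.IsCohenMacaulayRing (p.asIdeal.Fiber S)) :
    ∃ (N : ℕ) (T : Fin (N + 1) → Type u) (_ : ∀ d, CommRing (T d)) (_ : ∀ d, Algebra R (T d)),
      Nonempty (S ≃ₐ[R] ((d : Fin (N + 1)) → T d)) ∧ ∀ d : Fin (N + 1), Module.Flat R (T d) ∧
      Algebra.FinitePresentation R (T d) ∧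
      (∀ p : PrimeSpectrum R, LocCoh.IsCohenMacaulayRing (p.asIdeal.Fiber (T d))) ∧
      (∀ (p : PrimeSpectrum R), ∀ P ∈ minimalPrimes (p.asIdeal.Fiber (T d)),
        ringKrullDim (p.asIdeal.Fiber (T d) ⧸ P) = ((d : ℕ) : WithBot ℕ∞)) ∧
      ∀ w : PrimeSpectrum (T d), FlatMor.fibreDimAt (Spec.map (CommRingCat.ofHom (algebraMap R (T d)))) w =
        ((d : ℕ) : WithBot ℕ∞) := by
  classical
  let f := Spec.map (CommRingCat.ofHom (algebraMap R S))
  haveI : LocallyOfFinitePresentation f :=
    (HasRingHomProperty.Spec_iff (P := @LocallyOfFinitePresentation)).mpr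
      (RingHom.finitePresentation_algebraMap.mpr inferInstance)
  choose δ hδ using fun x : Spec (CommRingCat.of S) => Unibranch.exists_fibreDimAt_eq f x
  have hlc : IsLocallyConstant δ := by
    intro s
    have h := isLocallyConstant_fibreDimAt f (fun x => isCMAt_Spec hCM x) ((fun d : ℕ => (d : WithBot ℕ∞)) '' s)
    convert h using 1
    ext x
    simp only [Set.mem_preimage, hδ, Set.mem_image]
    exact ⟨fun hx => ⟨_, hx, rfl⟩, fun ⟨d, hd, e⟩ => (Nat.cast_inj.mp e) ▸ hd⟩
  obtain ⟨N, hN⟩ := hlc.range_finite.bddAbove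
  have hcl : ∀ d : Fin (N + 1), ∃ e : S, IsIdempotentElem e ∧
      (δ ⁻¹' {(d : ℕ)} : Set (PrimeSpectrum S)) = PrimeSpectrum.basicOpen e :=
    fun d => PrimeSpectrum.isClopen_iff.mp (hlc.isClopen_fiber (d : ℕ))
  choose e he hbo using hcl
  have hmem : ∀ (d : Fin (N + 1)) (q : PrimeSpectrum S), e d ∉ q.asIdeal ↔ δ q = (d : ℕ) := fun d q => by
    rw [← PrimeSpectrum.mem_basicOpen, ← SetLike.mem_coe, ← hbo]
    rfl
  have hz : ∀ x : S, IsIdempotentElem x → (∀ q : PrimeSpectrum S, x ∈ q.asIdeal) → x = 0 := fun x hx h =>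
    hx.eq_zero_of_isNilpotent (nilpotent_iff_mem_prime.mpr fun J hJ => h ⟨J, hJ⟩)
  have hortho : OrthogonalIdempotents e := ⟨he, fun i j hij => by
    refine hz _ ((he i).mul (he j)) fun q => ?_
    by_contra h
    have hi : δ q = (i : ℕ) := (hmem i q).mp fun h' => h (q.asIdeal.mul_mem_right _ h')
    have hj : δ q = (j : ℕ) := (hmem j q).mp fun h' => h (q.asIdeal.mul_mem_left _ h')
    exact hij (Fin.ext (hi.symm.trans hj))⟩
  have hco : CompleteOrthogonalIdempotents e := by
    refine ⟨hortho, ?_⟩
    have h0 : (1 : S) - ∑ d, e d = 0 := by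
      refine hz _ hortho.isIdempotentElem_sum.one_sub fun q => ?_
      have hd : δ q < N + 1 := Nat.lt_succ_of_le (hN ⟨q, rfl⟩)
      have h1 : (1 - e ⟨δ q, hd⟩) ∈ q.asIdeal := by
        refine (q.isPrime.mem_or_mem (x := e ⟨δ q, hd⟩) ?_).resolve_left ((hmem _ q).mpr rfl)
        rw [mul_sub, mul_one, (he _).eq, sub_self]
        exact q.asIdeal.zero_mem
      rw [← Finset.add_sum_erase _ _ (Finset.mem_univ (⟨δ q, hd⟩ : Fin (N + 1))), ← sub_sub]
      refine q.asIdeal.sub_mem h1 (Ideal.sum_mem _ fun d hd' => ?_)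
      by_contra h
      exact (Finset.mem_erase.mp hd').1 (Fin.ext ((hmem d q).mp h).symm)
    exact (sub_eq_zero.mp h0).symm
  refine ⟨N, fun d => S ⧸ Ideal.span ({1 - e d} : Set S), inferInstance, inferInstance,
    ⟨AlgEquiv.ofBijective (AlgHom.pi fun d => Ideal.Quotient.mkₐ R (Ideal.span ({1 - e d} : Set S)))
      hco.bijective_pi⟩, fun d => ?_⟩
  haveI hloc : IsLocalization.Away (e d) (S ⧸ Ideal.span ({1 - e d} : Set S)) :=
    IsLocalization.away_of_isIdempotentElem (he d) Ideal.mk_ker Ideal.Quotient.mk_surjective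
  haveI : Module.Flat S (S ⧸ Ideal.span ({1 - e d} : Set S)) :=
    IsLocalization.flat _ (Submonoid.powers (e d))
  haveI : Algebra.FinitePresentation S (S ⧸ Ideal.span ({1 - e d} : Set S)) :=
    IsLocalization.Away.finitePresentation (e d)
  haveI hfp : Algebra.FinitePresentation R (S ⧸ Ideal.span ({1 - e d} : Set S)) :=
    Algebra.FinitePresentation.trans R S _
  let T := S ⧸ Ideal.span ({1 - e d} : Set S)
  let j : Spec (CommRingCat.of T) ⟶ Spec (CommRingCat.of S) := Spec.map (CommRingCat.ofHom (algebraMap S T))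
  haveI : IsOpenImmersion j := IsOpenImmersion.of_isLocalization (e d)
  have hj : Spec.map (CommRingCat.ofHom (algebraMap R T)) = j ≫ f := by
    rw [← Spec.map_comp, ← CommRingCat.ofHom_comp, ← IsScalarTower.algebraMap_eq]
  have hdim : ∀ w : PrimeSpectrum T, FlatMor.fibreDimAt (Spec.map (CommRingCat.ofHom (algebraMap R T))) w =
      ((d : ℕ) : WithBot ℕ∞) := fun w => by
    rw [hj, LocalDimBC.fibreDimAt_openImmersion_comp j f, hδ]
    congr 1
    exact (hmem d _).mp fun h => w.isPrime.ne_top (Ideal.eq_top_of_isUnit_mem _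
      (show algebraMap S T (e d) ∈ w.asIdeal from h) (IsLocalization.Away.algebraMap_isUnit (e d)))
  refine ⟨Module.Flat.trans R S _, hfp, fun p => ?_, fun p P hP => ?_, hdim⟩
  · haveI := hCM p
    exact isCohenMacaulayRing_tensor_quotient (he d)
  · let Q : PrimeSpectrum (p.asIdeal.Fiber T) := ⟨P, hP.1.1⟩
    refine (ringKrullDim_quotient_minimalPrime (k := p.asIdeal.ResidueField) Q hP).trans ?_
    rw [← SyntLib.fibreDimAt_eq_localDim (R := R) (A := T) p.asIdeal Q]
    exact hdim _

end Groth.Agent.CMChart
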