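import Groth.Agent.CMChart.Scheme
import Groth.Agent.EquidimPt.FlatChart
import Mathlib.AlgebraicGeometry.Noetherian

/-!
# Cohen–Macaulay morphisms are equidimensional
-/

set_option autoImplicit false
universe u

open CategoryTheory AlgebraicGeometry Topology TopologicalSpace Limits
open Groth.Agent Groth.Agent.Unibranch Groth.Agent.EquidimPt

namespace Groth.Agent.CMChart

variable {X Y : Scheme.{u}}

/-- A chart flat at a point is flat near it. -/
theorem exists_flat_chart_of_flatAt (f : X ⟶ Y) [LocallyOfFinitePresentation f] {x : X} {d : ℕ}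
    {U : X.Opens} (hxU : x ∈ U) (g : (U : Scheme.{u}) ⟶ AffineSpace (ULift.{u} (Fin d)) Y)
    (hg : g ≫ (AffineSpace (ULift.{u} (Fin d)) Y ↘ Y) = U.ι ≫ f) [LocallyQuasiFinite g]
    (hflat : (g.stalkMap ⟨x, hxU⟩).hom.Flat) :
    ∃ (U₁ : X.Opens) (g₁ : (U₁ : Scheme.{u}) ⟶ AffineSpace (ULift.{u} (Fin d)) Y),
      x ∈ U₁ ∧ g₁ ≫ (AffineSpace (ULift.{u} (Fin d)) Y ↘ Y) = U₁.ι ≫ f ∧
        LocallyQuasiFinite g₁ ∧ Flat g₁ ∧ LocallyOfFinitePresentation g₁ := by
  let π := AffineSpace (ULift.{u} (Fin d)) Y ↘ Y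
  haveI : LocallyOfFinitePresentation (g ≫ π) := by rw [hg]; infer_instance
  haveI : Flat π := flat_affineSpace _
  let U₂ : (U : Scheme.{u}).Opens := ⟨_, FibCrit.isOpen g π⟩
  let U₁ : X.Opens := U.ι ''ᵁ U₂
  have hU₁U : U₁ ≤ U := by
    rintro _ ⟨z, -, rfl⟩
    exact z.2
  refine ⟨U₁, X.homOfLE hU₁U ≫ g, ⟨⟨x, hxU⟩, ⟨Flat.stalkMap π _, hflat⟩, rfl⟩,
    by rw [Category.assoc, hg, Scheme.homOfLE_ι_assoc], inferInstance, ?_, ?_⟩
  · refine Flat.of_stalkMap _ fun z => ?_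
    erw [Scheme.Hom.stalkMap_comp, CommRingCat.hom_comp]
    refine RingHom.Flat.comp ?_ (Flat.stalkMap (X.homOfLE hU₁U) z)
    obtain ⟨z', hz', e⟩ := z.2
    have h' : X.homOfLE hU₁U z ∈ U₂ := by
      rw [show X.homOfLE hU₁U z = z' from U.ι.isEmbedding.injective
        ((Scheme.Hom.comp_apply _ _ _).symm.trans ((congr($(X.homOfLE_ι hU₁U) z)).trans e.symm))]
      exact hz'
    exact h'.2
  · haveI : LocallyOfFinitePresentation ((X.homOfLE hU₁U ≫ g) ≫ π) := by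
      rw [Category.assoc]; infer_instance
    exact Groth.Agent.LimDesc.lfp_of_comp _ π

/-- A Cohen–Macaulay morphism with locally Noetherian source is equidimensional. -/
theorem isEquidimAt_of_isCMAt [IsLocallyNoetherian X] (f : X ⟶ Y) [LocallyOfFinitePresentation f] {x : X}
    (h : MoreMor.IsCMAt f x) : EGA43.IsEquidimAt f x := by
  obtain ⟨d, U, hxU, g, hg, hqf, hflat⟩ := exists_chart_of_isCMAt f h
  obtain ⟨U₁, g₁, hxU₁, hg₁, _, _, _⟩ := exists_flat_chart_of_flatAt f hxU g hg hflat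
  refine isEquidimAt_of_quasiFinite f x U₁ g₁ hxU₁ hg₁ fun ζ hζ a ha => ?_
  obtain ⟨b, hb, rfl⟩ := Flat.generalizingMap g₁ ha
  rw [hζ b hb]

end Groth.Agent.CMChart
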