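import Groth.Agent.CMChart.Equidim
import Groth.Agent.EquidimPt.FlatChart
import Groth.Agent.EquidimPt.Affine

/-!
# Local dimension along a flat quasi-finite chart into affine space
-/

set_option autoImplicit false
universe u

open CategoryTheory AlgebraicGeometry Topology TopologicalSpace Limits
open Groth.Agent Groth.Agent.Unibranch Groth.Agent.EquidimPt

namespace Groth.Agent.CMChart

variable {X Y : Scheme.{u}}

/-- Local dimension in terms of chains of points. -/
theorem natCast_le_localDim (x : X) {k : ℕ} :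
    (k : WithBot ℕ∞) ≤ FlatMor.localDim X x ↔
      ∀ U : X.Opens, x ∈ U → ∃ c : Fin (k + 1) → X, (∀ i, c i ∈ U) ∧ IsChain' c := by
  rw [FlatMor.localDim, le_iInf_iff]
  refine ⟨fun h U hU => ?_, fun h ⟨U, hU⟩ => ?_⟩
  · haveI : QuasiSober (U : Set X) := U.2.isOpenEmbedding_subtypeVal.quasiSober
    obtain ⟨c, hc⟩ := exists_chain_of_le_topologicalKrullDim (h ⟨U, hU⟩)
    exact ⟨fun i => (c i).1, fun i => (c i).2,
      fun i => ⟨(hc i).1.map continuous_subtype_val, fun e => (hc i).2 (Subtype.ext e)⟩⟩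
  · haveI : QuasiSober (U : Set X) := U.2.isOpenEmbedding_subtypeVal.quasiSober
    obtain ⟨c, hcU, hc⟩ := h U hU
    exact natCast_le_topologicalKrullDim (fun i => (⟨c i, hcU i⟩ : (U : Set X)))
      fun i => ⟨IsInducing.subtypeVal.specializes_iff.mp (hc i).1, fun e => (hc i).2 (congrArg Subtype.val e)⟩

/-- Chains in the base give longer chains in an open subset along a flat map with large fibres. -/
theorem exists_chain_total {A : Scheme.{u}} (π : A ⟶ Y) [Flat π] (d : ℕ)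
    (hd : ∀ a, (d : WithBot ℕ∞) ≤ FlatMor.fibreDimAt π a) (O : A.Opens) :
    ∀ {m : ℕ} (b : Fin (m + 1) → Y), IsChain' b → (∃ o ∈ O, π o = b (Fin.last m)) →
      ∃ (k : ℕ) (c : Fin (k + 1) → A), k = m + d ∧ (∀ i, c i ∈ O) ∧ IsChain' c ∧ π (c 0) = b 0 := by
  intro m
  induction m with
  | zero =>
    rintro b - ⟨o, ho, hob⟩
    obtain ⟨c, hc, hc'⟩ := (natCast_le_fibreDimAt_iff _ o).mp (hd o) O ho
    exact ⟨d, c, (zero_add d).symm, fun i => (hc i).1, hc', (hc 0).2.trans hob⟩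
  | succ m ih =>
    intro b hb ho
    obtain ⟨k, c, rfl, hcO, hc, hc0⟩ := ih (fun i => b i.succ) (fun i => hb i.succ) ho
    obtain ⟨p, hp, hpb⟩ := Flat.generalizingMap π (a := c 0)
      (show b 0 ⤳ _ by rw [hc0]; exact (hb 0).1)
    refine ⟨m + d + 1, Fin.cons p c, by omega, fun i => ?_, fun i => ?_, by simpa using hpb⟩
    · exact Fin.cases (hp.mem_open O.2 (hcO 0)) (fun j => by simpa using hcO j) i
    · refine Fin.cases ?_ (fun j => by simpa using hc j) i
      simp only [Fin.castSucc_zero, Fin.cons_zero, Fin.cons_succ]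
      exact ⟨hp, fun e => (hb 0).2 ((hpb.symm.trans (congrArg _ e)).trans hc0)⟩

/-- Chains in affine space over an affine open are bounded by chains in that open. -/
theorem exists_chain_base (d : ℕ) {V : Y.Opens} (hV : IsAffineOpen V) {m : ℕ}
    {c : Fin (m + d + 1) → ↥(AffineSpace (ULift.{u} (Fin d)) Y)}
    (hcV : ∀ i, (AffineSpace (ULift.{u} (Fin d)) Y ↘ Y) (c i) ∈ V) (hc : IsChain' c)
    [IsLocallyNoetherian Y] :
    ∃ b : Fin (m + 1) → Y, (∀ i, b i ∈ V) ∧ IsChain' b := by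
  haveI : IsNoetherianRing Γ(Y, V) := IsLocallyNoetherian.component_noetherian ⟨V, hV⟩
  have hmem : ∀ i, c i ∈ Set.range (chart (ULift.{u} (Fin d)) hV) := fun i => by
    rw [range_chart]; exact hcV i
  choose P hP using hmem
  have h1 : ((m + d : ℕ) : WithBot ℕ∞) ≤
      topologicalKrullDim (PrimeSpectrum (MvPolynomial (ULift.{u} (Fin d)) Γ(Y, V))) :=
    natCast_le_topologicalKrullDim P fun i =>
      ⟨(chart (ULift.{u} (Fin d)) hV).isOpenEmbedding.isInducing.specializes_iff.mp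
        (by rw [hP, hP]; exact (hc i).1), fun e => (hc i).2 (by rw [← hP, ← hP, e])⟩
  rw [PrimeSpectrum.topologicalKrullDim_eq_ringKrullDim, MvPolynomial.ringKrullDim_of_isNoetherianRing,
    Nat.card_eq_fintype_card, Fintype.card_ulift, Fintype.card_fin,
    ← PrimeSpectrum.topologicalKrullDim_eq_ringKrullDim] at h1
  have h2 : (m : WithBot ℕ∞) ≤ topologicalKrullDim (PrimeSpectrum Γ(Y, V)) := by
    revert h1
    cases topologicalKrullDim (PrimeSpectrum Γ(Y, V)) with
    | bot => simp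
    | coe a =>
      cases a with
      | top => intro _; exact WithBot.coe_le_coe.mpr le_top
      | coe a =>
        intro h1
        have h : m + d ≤ a + d := by exact_mod_cast h1
        exact_mod_cast (show m ≤ a by omega)
  obtain ⟨b, hb⟩ := exists_chain_of_le_topologicalKrullDim h2
  exact ⟨fun i => hV.fromSpec (b i), fun i => hV.range_fromSpec.le ⟨_, rfl⟩,
    fun i => ⟨(hb i).1.map hV.fromSpec.continuous, fun e => (hb i).2 (hV.fromSpec.isOpenEmbedding.injective e)⟩⟩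

/-- A quasi-finite chart into affine space bounds the local dimension. -/
theorem localDim_le_of_chart [IsLocallyNoetherian Y] (f : X ⟶ Y) {d : ℕ} {U : X.Opens}
    (g : (U : Scheme.{u}) ⟶ AffineSpace (ULift.{u} (Fin d)) Y) [LocallyQuasiFinite g]
    (hg : g ≫ (AffineSpace (ULift.{u} (Fin d)) Y ↘ Y) = U.ι ≫ f) {x : X} (hx : x ∈ U) :
    FlatMor.localDim X x ≤ FlatMor.localDim Y (f x) + (d : WithBot ℕ∞) := by
  let π := AffineSpace (ULift.{u} (Fin d)) Y ↘ Y
  have hπg : ∀ w : (U : Scheme.{u}), π (g w) = f (U.ι w) := fun w => by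
    rw [← Scheme.Hom.comp_apply, hg]; rfl
  refine le_of_forall_natCast_le fun n hn => ?_
  obtain ⟨m, hm⟩ : ∃ m, n ≤ m + d ∧ (m : WithBot ℕ∞) ≤ FlatMor.localDim Y (f x) := by
    refine ⟨n - d, by omega, (natCast_le_localDim _).mpr fun V hV => ?_⟩
    obtain ⟨V', hV', hxV', hV'V⟩ := exists_isAffineOpen_mem_and_subset hV
    rcases le_or_gt n d with hnd | hnd
    · rw [Nat.sub_eq_zero_of_le hnd]
      exact ⟨fun _ => f x, fun _ => hV, fun i => i.elim0⟩
    obtain ⟨c, hcU, hc⟩ := (natCast_le_localDim x).mp hn (U ⊓ f ⁻¹ᵁ V') ⟨hx, hxV'⟩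
    obtain ⟨q, rfl⟩ : ∃ q, n = q + d := ⟨n - d, by omega⟩
    have hsp : ∀ i : Fin (q + d), (⟨c i.castSucc, (hcU _).1⟩ : (U : Scheme.{u})) ⤳ ⟨c i.succ, (hcU _).1⟩ :=
      fun i => U.ι.isEmbedding.isInducing.specializes_iff.mp (hc i).1
    obtain ⟨b, hb, hb'⟩ := exists_chain_base d hV' (m := q)
      (c := fun i => g ⟨c i, (hcU i).1⟩) (fun i => by show π _ ∈ V'; rw [hπg]; exact (hcU i).2)
      fun i => ⟨(hsp i).map g.continuous,
        fun e => (hc i).2 (congrArg Subtype.val (EquidimPt.eq_of_specializes g (hsp i) e))⟩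
    rw [Nat.add_sub_cancel]
    exact ⟨b, fun i => hV'V (hb i), hb'⟩
  refine le_trans ?_ (add_le_add hm.2 le_rfl)
  exact_mod_cast hm.1

/-- Fibre dimensions restrict to open subschemes. -/
theorem le_fibreDimAt_restrict (f : X ⟶ Y) (U : X.Opens) (a : (U : Scheme.{u})) {d : ℕ}
    (h : (d : WithBot ℕ∞) ≤ FlatMor.fibreDimAt f (U.ι a)) :
    (d : WithBot ℕ∞) ≤ FlatMor.fibreDimAt (U.ι ≫ f) a := by
  refine (natCast_le_fibreDimAt_iff _ a).mpr fun O hO => ?_
  obtain ⟨c, hc, hc'⟩ := (natCast_le_fibreDimAt_iff f _).mp h (U.ι ''ᵁ O) ⟨a, hO, rfl⟩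
  choose b hbO hb using fun i => (hc i).1
  refine ⟨b, fun i => ⟨hbO i, ?_⟩, fun i => ⟨?_, fun e => (hc' i).2 ?_⟩⟩
  · show f (U.ι (b i)) = f (U.ι a)
    exact (congrArg f (hb i)).trans (hc i).2
  · refine U.ι.isEmbedding.isInducing.specializes_iff.mp ?_
    show U.ι (b i.castSucc) ⤳ U.ι (b i.succ)
    exact ((specializes_of_eq (hb i.castSucc)).trans (hc' i).1).trans (specializes_of_eq (hb i.succ).symm)
  · exact (hb i.castSucc).symm.trans ((congrArg U.ι e).trans (hb i.succ))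

/-- Flat maps with fibres of dimension at least `d` raise the local dimension by at least `d`. -/
theorem le_localDim_of_flat (f : X ⟶ Y) [Flat f] [LocallyOfFinitePresentation f] {d : ℕ} (x : X)
    {U : X.Opens} (hxU : x ∈ U) (hd : ∀ a ∈ U, (d : WithBot ℕ∞) ≤ FlatMor.fibreDimAt f a) :
    FlatMor.localDim Y (f x) + (d : WithBot ℕ∞) ≤ FlatMor.localDim X x := by
  refine le_of_forall_natCast_le fun n hn => (natCast_le_localDim x).mpr fun W hW => ?_
  obtain ⟨m, hnm, hm⟩ : ∃ m, n ≤ m + d ∧ (m : WithBot ℕ∞) ≤ FlatMor.localDim Y (f x) := by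
    have h0 : ((0 : ℕ) : WithBot ℕ∞) ≤ FlatMor.localDim Y (f x) :=
      (natCast_le_localDim _).mpr fun V hV => ⟨fun _ => f x, fun _ => hV, fun i => i.elim0⟩
    revert hn h0
    cases FlatMor.localDim Y (f x) with
    | bot => simp
    | coe a =>
      cases a with
      | top => exact fun _ _ => ⟨n, by omega, WithBot.coe_le_coe.mpr le_top⟩
      | coe a => exact fun hn _ => ⟨a, by exact_mod_cast hn, le_rfl⟩
  let π := U.ι ≫ f
  have hd' : ∀ a, (d : WithBot ℕ∞) ≤ FlatMor.fibreDimAt π a := fun a =>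
    le_fibreDimAt_restrict f U a (hd _ a.2)
  let O : (U : Scheme.{u}).Opens := U.ι ⁻¹ᵁ W
  let V : Y.Opens := ⟨π '' O, π.isOpenMap _ O.2⟩
  obtain ⟨b, hbV, hb⟩ := (natCast_le_localDim _).mp hm V ⟨⟨x, hxU⟩, hW, Scheme.Hom.comp_apply _ _ _⟩
  obtain ⟨o, ho, hob⟩ := hbV (Fin.last m)
  obtain ⟨k, c, rfl, hcO, hc, -⟩ := exists_chain_total π d hd' O b hb ⟨o, ho, hob⟩
  refine ⟨fun i => U.ι (c (Fin.castLE (by omega) i)), fun i => hcO _, fun i => ?_⟩
  let j : Fin (m + d) := Fin.castLE (by omega) i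
  exact ⟨(hc j).1.map U.ι.continuous, fun e => (hc j).2 (U.ι.isEmbedding.injective e)⟩

/-- Along a flat quasi-finite chart the local dimension is that of the base plus the relative dimension. -/
theorem localDim_eq_of_chart [IsLocallyNoetherian Y] (f : X ⟶ Y) [LocallyOfFinitePresentation f]
    {d : ℕ} {U : X.Opens} (g : (U : Scheme.{u}) ⟶ AffineSpace (ULift.{u} (Fin d)) Y) [LocallyQuasiFinite g]
    [Flat g] [LocallyOfFinitePresentation g]
    (hg : g ≫ (AffineSpace (ULift.{u} (Fin d)) Y ↘ Y) = U.ι ≫ f) {x : X} (hx : x ∈ U) :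
    FlatMor.localDim X x = FlatMor.localDim Y (f x) + (d : WithBot ℕ∞) := by
  haveI : Flat (AffineSpace (ULift.{u} (Fin d)) Y ↘ Y) := flat_affineSpace _
  haveI : Flat (U.ι ≫ f) := by rw [← hg]; infer_instance
  refine le_antisymm (localDim_le_of_chart f g hg hx) ?_
  have h := le_localDim_of_flat (U.ι ≫ f) (d := d) (U := ⊤) ⟨x, hx⟩ trivial fun a _ => ?_
  · rw [Scheme.Hom.comp_apply] at h
    refine h.trans ((le_of_forall_natCast_le fun n hn => (natCast_le_localDim x).mpr fun W hW => ?_))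
    obtain ⟨c, hc, hc'⟩ := (natCast_le_localDim _).mp hn (U.ι ⁻¹ᵁ W) hW
    exact ⟨fun i => U.ι (c i), hc, fun i => ⟨(hc' i).1.map U.ι.continuous,
      fun e => (hc' i).2 (U.ι.isEmbedding.injective e)⟩⟩
  · exact le_fibreDimAt_restrict f U a (le_fibreDimAt_of_chart f g hg a.2)

/-- The dimension formula along a Cohen–Macaulay morphism. -/
theorem localDim_eq_of_isCMAt [IsLocallyNoetherian Y] (f : X ⟶ Y) [LocallyOfFinitePresentation f] {x : X}
    (h : MoreMor.IsCMAt f x) :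
    FlatMor.localDim X x = FlatMor.localDim Y (f x) + FlatMor.fibreDimAt f x := by
  obtain ⟨d, U₀, hxU₀, g₀, hg₀, hqf, hflat⟩ := exists_chart_of_isCMAt f h
  obtain ⟨U, g, hx, hg, _, _, _⟩ := exists_flat_chart_of_flatAt f hxU₀ g₀ hg₀ hflat
  rw [localDim_eq_of_chart f g hg hx, le_antisymm
    ((fibreDimAt_le_iff f x).mpr ⟨U, hx, chainsLE_of_quasiFinite f U g hg _⟩)
    (le_fibreDimAt_of_chart f g hg hx)]

end Groth.Agent.CMChart
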